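import Cfsg.Agent.H66.TI.Hyp3
import Cfsg.Agent.H495.TI.Asm

/-!
# The hyperbolic case, in the form used by `H495/TI/Asm.lean` (helper66)
-/

set_option autoImplicit false

namespace Cfsg.Agent.H66.TI

theorem hypNo (F : Type) [Field F] [Fintype F] (hF : Fintype.card F = 3) :
    H495.TI.HypNo F := by
  intro n V _ _ _ ρ ψ hψ hn hρ hz hE i k hik h1 h0
  exact hyp_no hF hψ hn hρ hz hE hik h1 h0

end Cfsg.Agent.H66.TI
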