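import Cfsg.Agent.H162.RkTwo
import Cfsg.Agent.H162.WeilUniq
import Mathlib.LinearAlgebra.Eigenspace.Triangularizable

/-!
# The central operator of a representation of the symplectic group (helper66)

For an irreducible representation of `Sp_2n(F)` the sum of all transvections acts as a scalar.
Weight multiplicities, traces.
-/

set_option autoImplicit false
open Matrix Module Representation

namespace Cfsg.Agent.H66.TI

open Cfsg.Agent.H162.Weil

variable {F : Type*} [Field F] {n : ℕ}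

/-- The transvection attached to a vector. -/
def Tv (c : F) (w : Fin n ⊕ Fin n → F) : Sp n F :=
  ⟨Cfsg.sympTransvection n w c, S0764.result n w c⟩

theorem mul_Tv (A : Sp n F) (c : F) (w : Fin n ⊕ Fin n → F) :
    A * Tv c w = Tv c ((A : Matrix (Fin n ⊕ Fin n) (Fin n ⊕ Fin n) F) *ᵥ w) * A := by
  apply Subtype.ext
  exact mul_tr A w c

/-- the rank one symmetric matrix `a aᵀ`. -/
def sV (c : F) (a : Fin n → F) : Sym n F :=
  ⟨c • vecMulVec a a, by rw [mem_Sym, transpose_smul, transpose_vecMulVec]⟩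

theorem Tv_left (c : F) (a : Fin n → F) : Tv c (Sum.elim a 0) = uu (sV c a) := by
  apply Subtype.ext
  rw [uu_coe]
  show 1 + c • vecMulVec (Sum.elim a 0) (Matrix.J (Fin n) F *ᵥ Sum.elim a 0) = _
  rw [Matrix.J, fromBlocks_mulVec]
  ext p q
  rcases p with p | p <;> rcases q with q | q <;>
    simp [vecMulVec_apply, one_apply, sV]

theorem sV_single (c : F) (i : Fin n) : sV c (Pi.single i 1) = sD i c := by
  apply Subtype.ext
  show c • vecMulVec (Pi.single i 1) (Pi.single i 1) = single i i c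
  ext p q
  rw [Matrix.smul_apply, vecMulVec_apply, single_apply]
  by_cases hp : i = p
  · subst hp
    by_cases hq : i = q
    · subst hq; simp
    · simp [Ne.symm hq, hq]
  · simp [Ne.symm hp, hp]

/-- all transvections of the same sign are conjugate -/
theorem exists_conj (i : Fin n) (c : F) (w : Fin n ⊕ Fin n → F) (hw : w ≠ 0) :
    ∃ g : Sp n F, g * Tv c w * g⁻¹ = uu (sD i c) := by
  obtain ⟨k, -, a', hka⟩ := exists_move i (⊤ : Subgroup (Sp n F)) (fun _ => Subgroup.mem_top _)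
    (fun _ => Subgroup.mem_top _) (Subgroup.mem_top _) (w ∘ Sum.inl) (w ∘ Sum.inr)
  rw [Sum.elim_comp_inl_inr] at hka
  have ha : a' ≠ 0 := by
    rintro rfl
    apply hw
    have h1 := congrArg (fun z => ((k⁻¹ : Sp n F) : Matrix (Fin n ⊕ Fin n) (Fin n ⊕ Fin n) F) *ᵥ z)
      hka
    simp only [mulVec_mulVec] at h1
    rw [← Submonoid.coe_mul, inv_mul_cancel] at h1
    rw [Submonoid.coe_one, one_mulVec] at h1
    rw [h1]
    ext x
    rcases x with x | x <;>
    simp [mulVec, dotProduct]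
  obtain ⟨h, hh⟩ := exists_vecMul_eq_single a' ha i
  -- `hᵀ` moves `a'` to `e_i`
  let u : GL (Fin n) F := ⟨(h : Matrix (Fin n) (Fin n) F)ᵀ,
    ((h⁻¹ : GL (Fin n) F) : Matrix (Fin n) (Fin n) F)ᵀ, by
      rw [← transpose_mul, ← Units.val_mul, inv_mul_cancel]; simp, by
      rw [← transpose_mul, ← Units.val_mul, mul_inv_cancel]; simp⟩
  have hu : (u : Matrix (Fin n) (Fin n) F) *ᵥ a' = Pi.single i 1 := by
    show (h : Matrix (Fin n) (Fin n) F)ᵀ *ᵥ a' = _
    rw [mulVec_transpose, hh]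
  refine ⟨mm u * k, ?_⟩
  rw [mul_Tv, mul_inv_cancel_right, Submonoid.coe_mul, ← mulVec_mulVec, hka, mm_mulVec, hu,
    zero_vecMul, Tv_left, sV_single]

section rep

variable [Fintype F] {V : Type*} [AddCommGroup V] [Module ℂ V]
  (ρ : Representation ℂ (Sp n F) V)

/-- The sum of all transvections (with `c`). -/
noncomputable def Aop (c : F) : V →ₗ[ℂ] V := ∑ w : Fin n ⊕ Fin n → F, ρ (Tv c w)

variable {ρ}

theorem Aop_comm (c : F) (g : Sp n F) (v : V) : Aop ρ c (ρ g v) = ρ g (Aop ρ c v) := by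
  simp only [Aop, LinearMap.sum_apply, map_sum]
  symm
  have hinv : ∀ (g : Sp n F) (w : Fin n ⊕ Fin n → F),
      ((g⁻¹ : Sp n F) : Matrix (Fin n ⊕ Fin n) (Fin n ⊕ Fin n) F) *ᵥ
        ((g : Matrix (Fin n ⊕ Fin n) (Fin n ⊕ Fin n) F) *ᵥ w) = w := by
    intro g w
    rw [mulVec_mulVec, ← Submonoid.coe_mul, inv_mul_cancel, Submonoid.coe_one, one_mulVec]
  refine Fintype.sum_equiv ⟨fun w => (g : Matrix (Fin n ⊕ Fin n) (Fin n ⊕ Fin n) F) *ᵥ w,
    fun w => ((g⁻¹ : Sp n F) : Matrix (Fin n ⊕ Fin n) (Fin n ⊕ Fin n) F) *ᵥ w, hinv g, ?_⟩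
    _ _ fun w => ?_
  · intro w
    have := hinv g⁻¹ w
    rwa [inv_inv] at this
  · rw [Equiv.coe_fn_mk, ← rho_mul, ← rho_mul, mul_Tv]

/-- Schur. -/
theorem exists_scalar_of_comm [FiniteDimensional ℂ V] {G : Type*} [Group G]
    {σ : Representation ℂ G V}
    (hσ : σ.IsIrreducible) (A : V →ₗ[ℂ] V) (hA : ∀ g v, A (σ g v) = σ g (A v)) :
    ∃ μ : ℂ, ∀ v, A v = μ • v := by
  have hnt : Nontrivial V := by
    by_contra hc
    rw [not_nontrivial_iff_subsingleton] at hc
    have := hσ.toNontrivial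
    obtain ⟨U, hU⟩ := exists_ne (⊤ : Subrepresentation σ)
    apply hU
    apply Subrepresentation.toSubmodule_injective
    exact Subsingleton.elim _ _
  obtain ⟨μ, hμ⟩ := Module.End.exists_eigenvalue (K := ℂ) A
  obtain ⟨v, hv⟩ := hμ.exists_hasEigenvector
  refine ⟨μ, ?_⟩
  have h1 := eq_top_of_irr hσ (Module.End.eigenspace A μ) (by
    intro g u hu
    rw [Module.End.mem_eigenspace_iff] at hu ⊢
    rw [hA, hu, map_smul]) hv.1 hv.2
  intro w
  have h3 : w ∈ Module.End.eigenspace A μ := by rw [h1]; exact Submodule.mem_top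
  rwa [Module.End.mem_eigenspace_iff] at h3

/-- The central character value from the trace. -/
theorem Aop_scalar [FiniteDimensional ℂ V] (hρ : ρ.IsIrreducible) (i : Fin n) (c : F) :
    ∃ μ : ℂ, (∀ v, Aop ρ c v = μ • v) ∧
      μ * (finrank ℂ V : ℂ) = (finrank ℂ V : ℂ) +
        ((Fintype.card F : ℂ) ^ (2 * n) - 1) * ρ.character (uu (sD i c)) := by
  classical
  obtain ⟨μ, hμ⟩ := exists_scalar_of_comm hρ (Aop ρ c) (fun g v => Aop_comm c g v)
  refine ⟨μ, hμ, ?_⟩
  have h1 : Aop ρ c = μ • LinearMap.id := LinearMap.ext hμ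
  have h3 := congrArg (LinearMap.trace ℂ V) h1
  rw [map_smul, LinearMap.trace_id, smul_eq_mul, Aop, map_sum] at h3
  rw [← h3]
  have hone : Tv c (0 : Fin n ⊕ Fin n → F) = 1 := by
    apply Subtype.ext
    show 1 + c • vecMulVec (0 : Fin n ⊕ Fin n → F) _ = 1
    rw [zero_vecMulVec, smul_zero, add_zero]
  have h4 : ∀ w : Fin n ⊕ Fin n → F, LinearMap.trace ℂ V (ρ (Tv c w)) =
      if w = 0 then (finrank ℂ V : ℂ) else ρ.character (uu (sD i c)) := by
    intro w
    split_ifs with hw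
    · rw [hw, hone, map_one]
      exact LinearMap.trace_one ℂ V
    · obtain ⟨g, hg⟩ := exists_conj i c w hw
      rw [← hg, Representation.char_conj]
      rfl
  rw [Finset.sum_congr rfl fun w _ => h4 w, Finset.sum_ite, Finset.filter_eq' _ 0,
    if_pos (Finset.mem_univ _), Finset.sum_singleton, Finset.sum_const, Finset.filter_ne',
    Finset.card_erase_of_mem (Finset.mem_univ _), Finset.card_univ, nsmul_eq_mul]
  congr 2
  rw [Fintype.card_fun, Fintype.card_sum, Fintype.card_fin, ← two_mul]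
  rw [Nat.cast_sub (Nat.one_le_pow _ _ Fintype.card_pos)]
  push_cast
  rfl

end rep

end Cfsg.Agent.H66.TI
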