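import Cfsg.Agent.H162.RkTwo

/-!
# The field with three elements (helper66)
-/

set_option autoImplicit false
open Matrix Module Representation

namespace Cfsg.Agent.H66.TI

open Cfsg.Agent.H162.Weil

variable {F : Type*} [Field F] [Fintype F]

theorem three_zero (hF : Fintype.card F = 3) : (3 : F) = 0 := by
  have h := FiniteField.cast_card_eq_zero F
  rw [hF] at h
  exact_mod_cast h

theorem two_eq (hF : Fintype.card F = 3) : (2 : F) = -1 := by
  linear_combination three_zero hF

theorem two_ne (hF : Fintype.card F = 3) : (2 : F) ≠ 0 := by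
  rw [two_eq hF]; exact neg_ne_zero.mpr one_ne_zero

theorem three_cases (hF : Fintype.card F = 3) (x : F) : x = 0 ∨ x = 1 ∨ x = -1 := by
  have h := FiniteField.pow_card x
  rw [hF] at h
  have h1 : x * ((x - 1) * (x + 1)) = 0 := by linear_combination h
  rcases mul_eq_zero.mp h1 with h3 | h3
  · exact Or.inl h3
  · rcases mul_eq_zero.mp h3 with h4 | h4
    · exact Or.inr (Or.inl (sub_eq_zero.mp h4))
    · exact Or.inr (Or.inr (eq_neg_of_add_eq_zero_left h4))

theorem one_ne_neg (hF : Fintype.card F = 3) : (1 : F) ≠ -1 := by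
  intro h
  apply two_ne hF
  linear_combination h

theorem sum_F (hF : Fintype.card F = 3) {M : Type*} [AddCommMonoid M] (f : F → M) :
    ∑ x : F, f x = f 0 + (f 1 + f (-1)) := by
  classical
  have h : (Finset.univ : Finset F) = {0, 1, -1} := by
    ext x
    simp only [Finset.mem_univ, Finset.mem_insert, Finset.mem_singleton, true_iff]
    exact three_cases hF x
  rw [h, Finset.sum_insert, Finset.sum_insert, Finset.sum_singleton]
  · rw [Finset.mem_singleton]; exact one_ne_neg hF
  · rw [Finset.mem_insert, Finset.mem_singleton]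
    rintro (h1 | h1)
    · exact zero_ne_one h1
    · exact neg_ne_zero.mpr (one_ne_zero (α := F)) h1.symm

variable {ψ : AddChar F ℂ}

theorem psi_mul_neg (a : F) : ψ a * ψ (-a) = 1 := by
  rw [← AddChar.map_add_eq_mul, add_neg_cancel, AddChar.map_zero_eq_one]

theorem psi_sq (hF : Fintype.card F = 3) (a : F) : ψ a * ψ a = ψ (-a) := by
  rw [← AddChar.map_add_eq_mul]
  congr 1
  linear_combination a * three_zero hF

theorem sum_psi (hF : Fintype.card F = 3) (hψ : ψ.IsPrimitive) {a : F} (ha : a ≠ 0) :
    ψ (-a) = -1 - ψ a := by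
  have h1 : ∑ x : F, ψ (a * x) = 0 := by
    have := AddChar.sum_eq_zero_of_ne_one (hψ ha)
    simpa [AddChar.mulShift_apply] using this
  rw [sum_F hF, mul_zero, AddChar.map_zero_eq_one, mul_one, mul_neg, mul_one] at h1
  linear_combination h1

theorem psi_ne_one (hF : Fintype.card F = 3) (hψ : ψ.IsPrimitive) {a : F} (ha : a ≠ 0) :
    ψ a ≠ 1 := by
  intro h
  have h1 := sum_psi hF hψ ha
  have h3 := psi_mul_neg (ψ := ψ) a
  rw [h1, h] at h3
  norm_num at h3

theorem gs_eq (hF : Fintype.card F = 3) (a : F) : gs ψ a = 1 + 2 * ψ a := by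
  rw [gs, sum_F hF]
  have h1 : a * (0 : F) ^ 2 = 0 := by ring
  have h3 : a * (1 : F) ^ 2 = a := by ring
  have h4 : a * (-1 : F) ^ 2 = a := by ring
  rw [h1, h3, h4, AddChar.map_zero_eq_one]
  ring

end Cfsg.Agent.H66.TI
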