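import Cfsg.Agent.H66.TI.Base
import Cfsg.Agent.H162.WeilOrb

/-!
# Multiplicities of weights (helper66)
-/

set_option autoImplicit false
open Matrix Module Representation

namespace Cfsg.Agent.H66.TI

open Cfsg.Agent.H162.Weil

variable {F : Type*} [Field F] {n : ℕ} [Fintype F] {V : Type*} [AddCommGroup V] [Module ℂ V]
  {ρ : Representation ℂ (Sp n F) V} {ψ : AddChar F ℂ}

theorem trace_Pj [FiniteDimensional ℂ V] (T : Matrix (Fin n) (Fin n) F) :
    LinearMap.trace ℂ V (Pj ρ ψ T) = (finrank ℂ (Wt ρ ψ T) : ℂ) := by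
  have h : LinearMap.IsProj (Wt ρ ψ T) (Pj ρ ψ T) := ⟨Pj_mem T, fun v hv => Pj_of_mem hv⟩
  exact h.trace

theorem char_uu [FiniteDimensional ℂ V] (hψ : ψ.IsPrimitive) (h2 : (2 : F) ≠ 0) (S : Sym n F) :
    ρ.character (uu S) = ∑ T : Sym n F, ψ (pr T.1 S.1) * (finrank ℂ (Wt ρ ψ T.1) : ℂ) := by
  have h1 : ρ (uu S) = ∑ T : Sym n F, ψ (pr T.1 S.1) • Pj ρ ψ T.1 := by
    apply LinearMap.ext
    intro v
    conv_lhs => rw [← sum_Pj (ρ := ρ) hψ h2 v, map_sum]
    rw [LinearMap.sum_apply]
    refine Finset.sum_congr rfl fun T _ => ?_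
    rw [LinearMap.smul_apply]
    exact Pj_mem T.1 v S
  show LinearMap.trace ℂ V (ρ (uu S)) = _
  rw [h1, map_sum]
  refine Finset.sum_congr rfl fun T _ => ?_
  rw [map_smul, trace_Pj, smul_eq_mul]

theorem finrank_eq_sum [FiniteDimensional ℂ V] (hψ : ψ.IsPrimitive) (h2 : (2 : F) ≠ 0) :
    finrank ℂ V = ∑ T : Sym n F, finrank ℂ (Wt ρ ψ T.1) := by
  have h := char_uu (ρ := ρ) hψ h2 (0 : Sym n F)
  rw [uu_zero, Representation.char_one] at h
  simp only [ZeroMemClass.coe_zero, pr_zero_right, AddChar.map_zero_eq_one, one_mul] at h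
  exact_mod_cast h

theorem finrank_Wt_actT [FiniteDimensional ℂ V] (h : GL (Fin n) F)
    (T : Matrix (Fin n) (Fin n) F) :
    finrank ℂ (Wt ρ ψ (actT h T)) = finrank ℂ (Wt ρ ψ T) := by
  have h1 : Pj ρ ψ (actT h T) = ρ (mm h) * Pj ρ ψ T * ρ (mm h⁻¹) := by
    apply LinearMap.ext
    intro v
    rw [Module.End.mul_apply, Module.End.mul_apply, mm_Pj, ← rho_mul, ← map_mul, mul_inv_cancel,
      map_one, map_one, Module.End.one_apply]
  have h3 := congrArg (LinearMap.trace ℂ V) h1
  rw [LinearMap.trace_mul_comm, ← mul_assoc, ← map_mul, ← map_mul, inv_mul_cancel, map_one,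
    map_one, one_mul, trace_Pj, trace_Pj] at h3
  exact_mod_cast h3

/-- extension by zero -/
def ez (i : Fin n) (r : {j : Fin n // j ≠ i} → F) : Fin n → F :=
  fun j => if h : j = i then 0 else r ⟨j, h⟩

omit [Fintype F] in
theorem ez_self (i : Fin n) (r : {j : Fin n // j ≠ i} → F) : ez i r i = 0 := by simp [ez]

omit [Fintype F] in
theorem ez_ne {i j : Fin n} (r : {j : Fin n // j ≠ i} → F) (h : j ≠ i) :
    ez i r j = r ⟨j, h⟩ := by simp [ez, h]

/-- the shift -/
def sh (i : Fin n) (r : {j : Fin n // j ≠ i} → F) : GL (Fin n) F :=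
  (Cfsg.Agent.H162.Weil.rk (Pi.single i 1) (ez i r) (by rw [dotProduct_single_one, ez_self]; simp))⁻¹

omit [Fintype F] in
theorem actT_sh (i : Fin n) (r : {j : Fin n // j ≠ i} → F) {T : Matrix (Fin n) (Fin n) F}
    (hT : T ∈ Sym n F) (p q : Fin n) :
    actT (sh i r) T p q = T p q + ez i r p * T i q + T i p * ez i r q +
      ez i r p * ez i r q * T i i := by
  have hs : ∀ x y, T x y = T y x := fun x y => Sym.apply ⟨T, hT⟩ x y
  rw [actT, sh, inv_inv, rk_coe, transpose_add, transpose_one, transpose_vecMulVec,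
    Matrix.add_mul, Matrix.one_mul, Matrix.mul_add, Matrix.mul_one, Matrix.add_apply,
    Matrix.add_apply]
  have h1 : (vecMulVec (ez i r) (Pi.single i 1) * T) = vecMulVec (ez i r) (T i) := by
    rw [vecMulVec_mul]
    congr 1
    ext k
    simp [vecMul, single_dotProduct]
  rw [h1, Matrix.add_mul, Matrix.add_apply, mul_vecMulVec, mul_vecMulVec]
  simp only [vecMulVec_apply]
  have h3 : (T *ᵥ Pi.single i 1) p = T i p := by
    rw [mulVec_single_one]; exact hs p i
  have h4 : (vecMulVec (ez i r) (T i) *ᵥ Pi.single i 1) p = ez i r p * T i i := by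
    rw [mulVec_single_one]; rfl
  rw [h3, h4]
  ring

/-- divisibility -/
theorem dvd_sum [FiniteDimensional ℂ V] (i : Fin n) {c : F} (hc : c ≠ 0) :
    Fintype.card F ^ (n - 1) ∣
      ∑ T : Sym n F, (by classical exact if T.1 i i = c then finrank ℂ (Wt ρ ψ T.1) else 0) := by
  classical
  let R := {j : Fin n // j ≠ i} → F
  let P : Sym n F → Prop := fun T => T.1 i i = c ∧ ∀ j, j ≠ i → T.1 i j = 0
  let A : R → Sym n F → Sym n F := fun r T => ⟨actT (sh i r) T.1, actT_mem _ T.2⟩
  have hA1 : ∀ r T j, j ≠ i → (A r T).1 i j = T.1 i j + T.1 i i * ez i r j := by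
    intro r T j hj
    show actT (sh i r) T.1 i j = _
    rw [actT_sh i r T.2, ez_self]; ring
  have hA2 : ∀ r T, (A r T).1 i i = T.1 i i := by
    intro r T
    show actT (sh i r) T.1 i i = _
    rw [actT_sh i r T.2, ez_self]; ring
  have hbij : ∀ r, Function.Bijective (A r) := by
    intro r
    apply (Finite.injective_iff_bijective).mp
    intro T T' h
    have h1 : actT (sh i r) T.1 = actT (sh i r) T'.1 := congrArg Subtype.val h
    have h3 := congrArg (actT (sh i r)⁻¹) h1
    rw [← actT_mul, ← actT_mul, inv_mul_cancel, actT_one, actT_one] at h3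
    exact Subtype.ext h3
  have hm : ∀ r T, finrank ℂ (Wt ρ ψ (A r T).1) = finrank ℂ (Wt ρ ψ T.1) := fun r T =>
    finrank_Wt_actT _ _
  have key : ∑ T : Sym n F, (if T.1 i i = c then finrank ℂ (Wt ρ ψ T.1) else 0) =
      Fintype.card R * ∑ T : Sym n F, if P T then finrank ℂ (Wt ρ ψ T.1) else 0 := by
    calc ∑ T : Sym n F, (if T.1 i i = c then finrank ℂ (Wt ρ ψ T.1) else 0)
        = ∑ T : Sym n F, ∑ r : R, if P (A r T) then finrank ℂ (Wt ρ ψ T.1) else 0 := by
          refine Finset.sum_congr rfl fun T _ => ?_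
          by_cases hT : T.1 i i = c
          · rw [if_pos hT]
            rw [Finset.sum_eq_single (fun j : {j : Fin n // j ≠ i} => - (c⁻¹ * T.1 i j.1))]
            · rw [if_pos]
              refine ⟨by rw [hA2, hT], fun j hj => ?_⟩
              rw [hA1 _ _ _ hj, ez_ne _ hj, hT]
              field_simp
              ring
            · intro r _ hr
              rw [if_neg]
              rintro ⟨-, h⟩
              apply hr
              ext j
              have := h j.1 j.2
              rw [hA1 _ _ _ j.2, ez_ne _ j.2, hT] at this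
              field_simp
              linear_combination this
            · simp
          · rw [if_neg hT]
            symm
            apply Finset.sum_eq_zero
            intro r _
            rw [if_neg]
            rintro ⟨h, -⟩
            rw [hA2] at h
            exact hT h
      _ = ∑ r : R, ∑ T : Sym n F, if P (A r T) then finrank ℂ (Wt ρ ψ (A r T).1) else 0 := by
          rw [Finset.sum_comm]
          simp only [hm]
      _ = ∑ r : R, ∑ T : Sym n F, if P T then finrank ℂ (Wt ρ ψ T.1) else 0 := by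
          refine Finset.sum_congr rfl fun r _ => ?_
          exact Fintype.sum_bijective (A r) (hbij r) _ _ (fun T => rfl)
      _ = _ := by rw [Finset.sum_const, Finset.card_univ, smul_eq_mul]
  have hcard : Fintype.card R = Fintype.card F ^ (n - 1) := by
    have : Fintype.card {j : Fin n // j ≠ i} = n - 1 := by
      simp
    rw [Fintype.card_fun, this]
  refine ⟨∑ T : Sym n F, if P T then finrank ℂ (Wt ρ ψ T.1) else 0, ?_⟩
  rw [← hcard, ← key]

end Cfsg.Agent.H66.TI
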