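import Cfsg.Agent.H66.TI.Iso2
import Cfsg.Agent.H66.TI.Mult

/-!
# There is no hyperbolic representation of the forbidden degree (helper66)
-/

set_option autoImplicit false
open Matrix Module Representation

namespace Cfsg.Agent.H66.TI

open Cfsg.Agent.H162.Weil

variable {F : Type*} [Field F] {n : ℕ}

theorem exists_sym_mulVec' (a b : Fin n → F) (hb : b ≠ 0) : ∃ S : Sym n F, S.1 *ᵥ b = a := by
  obtain ⟨j, hj⟩ : ∃ j, b j ≠ 0 := by
    by_contra hc
    push Not at hc
    exact hb (funext hc)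
  let e : Fin n → F := Pi.single j (b j)⁻¹
  have he : e ⬝ᵥ b = 1 := by
    simp only [e]
    rw [single_dotProduct, inv_mul_cancel₀ hj]
  refine ⟨⟨vecMulVec a e + vecMulVec e a - (a ⬝ᵥ b) • vecMulVec e e, ?_⟩, ?_⟩
  · rw [mem_Sym, transpose_sub, transpose_add, transpose_smul, transpose_vecMulVec,
      transpose_vecMulVec, transpose_vecMulVec, add_comm]
  · show (vecMulVec a e + vecMulVec e a - (a ⬝ᵥ b) • vecMulVec e e) *ᵥ b = a
    rw [sub_mulVec, add_mulVec, smul_mulVec, vecMulVec_mulVec, vecMulVec_mulVec,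
      vecMulVec_mulVec, he]
    ext p
    simp

theorem actT_sE (h : GL (Fin n) F) (i k : Fin n) (c : F) :
    actT h (sE i k c).1 = c •
      (vecMulVec ((Pi.single i 1 : Fin n → F) ᵥ* ((h⁻¹ : GL (Fin n) F) : Matrix (Fin n) (Fin n) F))
        ((Pi.single k 1 : Fin n → F) ᵥ* ((h⁻¹ : GL (Fin n) F) : Matrix (Fin n) (Fin n) F)) +
      vecMulVec ((Pi.single k 1 : Fin n → F) ᵥ* ((h⁻¹ : GL (Fin n) F) : Matrix (Fin n) (Fin n) F))
        ((Pi.single i 1 : Fin n → F) ᵥ* ((h⁻¹ : GL (Fin n) F) : Matrix (Fin n) (Fin n) F))) := by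
  have h1 : (sE i k c).1 = c • (vecMulVec (Pi.single i 1) (Pi.single k 1) +
      vecMulVec (Pi.single k 1) (Pi.single i 1)) := by
    have e : ∀ i k : Fin n, single i k c = c • vecMulVec (Pi.single i 1) (Pi.single k 1) := by
      intro i k
      ext p q
      rw [Matrix.smul_apply, vecMulVec_apply, single_apply, smul_eq_mul]
      by_cases h1 : i = p
      · subst h1
        by_cases h2 : k = q
        · subst h2; simp
        · simp [h2, Ne.symm h2]
      · simp [h1, Ne.symm h1]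
    rw [sE_coe, e, e, smul_add]
  rw [actT, h1, Matrix.mul_smul, Matrix.smul_mul, Matrix.mul_add, Matrix.add_mul]
  congr 2
  · rw [mul_vecMulVec, vecMulVec_mul, mulVec_transpose]
  · rw [mul_vecMulVec, vecMulVec_mul, mulVec_transpose]

variable [Fintype F] {V : Type*} [AddCommGroup V] [Module ℂ V]
  {ρ : Representation ℂ (Sp n F) V} {ψ : AddChar F ℂ}

theorem Pj_Tv_shift {T : Matrix (Fin n) (Fin n) F} {v : V} (hv : v ∈ Wt ρ ψ T)
    (a b : Fin n → F) (hb : b ≠ 0) :
    Pj ρ ψ T (ρ (Tv 1 (Sum.elim a b)) v) = Pj ρ ψ T (ρ (Tv 1 (Sum.elim 0 b)) v) := by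
  obtain ⟨S, hS⟩ := exists_sym_mulVec' a b hb
  have h1 : uu S * Tv 1 (Sum.elim 0 b) = Tv 1 (Sum.elim a b) * uu S := by
    rw [mul_Tv, uu_mulVec, hS, zero_add]
  have h3 : Pj ρ ψ T (ρ (Tv 1 (Sum.elim a b)) (ρ (uu S) v)) =
      ρ (uu S) (Pj ρ ψ T (ρ (Tv 1 (Sum.elim 0 b)) v)) := by
    rw [← rho_mul, ← h1, rho_mul, rho_uu_Pj]
  rw [hv S, Pj_mem T _ S, map_smul, map_smul] at h3
  exact smul_right_injective V (psi_ne_zero _) h3

open Classical in
theorem Aop_proj {T : Matrix (Fin n) (Fin n) F} {v : V} (hv : v ∈ Wt ρ ψ T) :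
    Pj ρ ψ T (Aop ρ 1 v) =
      (∑ a : Fin n → F, ψ (pr T (sV 1 a).1)) • v +
      ((Fintype.card F : ℂ) ^ n) • ∑ b ∈ Finset.univ.erase (0 : Fin n → F),
        Pj ρ ψ T (ρ (Tv 1 (Sum.elim 0 b)) v) := by
  rw [Aop, LinearMap.sum_apply, map_sum]
  rw [Fintype.sum_equiv (Equiv.sumArrowEquivProdArrow (Fin n) (Fin n) F) _
    (fun p => Pj ρ ψ T (ρ (Tv 1 (Sum.elim p.1 p.2)) v)) (by
      intro w
      have hw : Sum.elim ((Equiv.sumArrowEquivProdArrow (Fin n) (Fin n) F) w).1
          ((Equiv.sumArrowEquivProdArrow (Fin n) (Fin n) F) w).2 = w := by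
        funext x
        rcases x with x | x <;> rfl
      rw [hw])]
  rw [Fintype.sum_prod_type, Finset.sum_comm, ← Finset.add_sum_erase _ _ (Finset.mem_univ 0)]
  congr 1
  · rw [Finset.sum_smul]
    refine Finset.sum_congr rfl fun a _ => ?_
    rw [Tv_left, hv, map_smul, Pj_of_mem hv]
  · rw [Finset.smul_sum]
    refine Finset.sum_congr rfl fun b hb => ?_
    rw [Finset.sum_congr rfl fun a _ => Pj_Tv_shift hv a b (Finset.ne_of_mem_erase hb),
      Finset.sum_const, Finset.card_univ, Fintype.card_fun, Fintype.card_fin,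
      ← Nat.cast_smul_eq_nsmul ℂ]
    push_cast
    rfl

theorem gauss_sum (hF : Fintype.card F = 3) (hψ : ψ.IsPrimitive) (hn : 2 ≤ n) {i k : Fin n}
    (hik : i ≠ k) : ∑ a : Fin n → F, ψ (a i * a i - a k * a k) = (3 : ℂ) ^ (n - 1) := by
  classical
  let g : Fin n → F → ℂ := fun l x => if l = i then ψ (1 * x ^ 2) else
    if l = k then ψ (-1 * x ^ 2) else 1
  have h1 : ∀ a : Fin n → F, ψ (a i * a i - a k * a k) = ∏ l, g l (a l) := by
    intro a
    rw [← Finset.mul_prod_erase _ _ (Finset.mem_univ i),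
      ← Finset.mul_prod_erase _ _ (Finset.mem_erase.mpr ⟨hik.symm, Finset.mem_univ k⟩)]
    rw [Finset.prod_eq_one]
    · simp only [g, if_pos, if_neg hik.symm, mul_one]
      rw [← AddChar.map_add_eq_mul]
      congr 1; ring
    · intro l hl
      rw [Finset.mem_erase, Finset.mem_erase] at hl
      simp only [g]
      rw [if_neg hl.2.1, if_neg hl.1]
  rw [Finset.sum_congr rfl fun a _ => h1 a]
  have h3 := Finset.prod_univ_sum (fun _ : Fin n => (Finset.univ : Finset F)) g
  rw [Fintype.piFinset_univ] at h3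
  rw [← h3, ← Finset.mul_prod_erase _ _ (Finset.mem_univ i),
      ← Finset.mul_prod_erase _ _ (Finset.mem_erase.mpr ⟨hik.symm, Finset.mem_univ k⟩)]
  have h4 : ∏ l ∈ (Finset.univ.erase i).erase k, ∑ x : F, g l x = 3 ^ (n - 2) := by
    rw [Finset.prod_congr rfl (g := fun _ => (3 : ℂ))]
    · rw [Finset.prod_const, Finset.card_erase_of_mem
        (Finset.mem_erase.mpr ⟨hik.symm, Finset.mem_univ k⟩),
        Finset.card_erase_of_mem (Finset.mem_univ i), Finset.card_univ, Fintype.card_fin]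
      congr 1
    · intro l hl
      rw [Finset.mem_erase, Finset.mem_erase] at hl
      simp only [g, if_neg hl.2.1, if_neg hl.1]
      rw [Finset.sum_const, Finset.card_univ, hF]
      norm_num
  have h5 : ∑ x : F, g i x = gs ψ 1 := by simp only [g, if_pos]; rfl
  have h6 : ∑ x : F, g k x = gs ψ (-1) := by simp only [g, if_neg hik.symm, if_pos]; rfl
  have h7 := (g2_three (ψ := ψ) hF hψ one_ne_zero).2
  rw [g2] at h7
  rw [h4, h5, h6, ← mul_assoc, h7, ← pow_succ']
  congr 1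
  omega

end Cfsg.Agent.H66.TI
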