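import Cfsg.Agent.H66.TI.Hyp
import Cfsg.Agent.H495.TI.Types

/-!
# There is no hyperbolic representation of the forbidden degree: inputs (helper66)
-/

set_option autoImplicit false
open Matrix Module Representation

namespace Cfsg.Agent.H66.TI

open Cfsg.Agent.H162.Weil

variable {F : Type*} [Field F] {n : ℕ} [Fintype F]

/-- rank one orbit -/
theorem card_rk1 (hF : Fintype.card F = 3) {s : F} (hs : s ≠ 0) (i : Fin n) :
    3 ^ n - 1 ≤ 2 * Nat.card (Ob (TT s (Pi.single i 1) : Matrix (Fin n) (Fin n) F)) := by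
  classical
  let A : Finset (Fin n → F) := Finset.univ.erase 0
  let f : (Fin n → F) → Sym n F := fun x => ⟨TT s x, TT_mem s x⟩
  have h1 := Finset.card_le_mul_card_image (f := f) A 2 (fun a ha => by
    obtain ⟨x, hx, rfl⟩ := Finset.mem_image.mp ha
    refine le_trans (Finset.card_le_card ?_) (Finset.card_le_two (a := x) (b := -x))
    intro y hy
    rw [Finset.mem_filter] at hy
    have := TT_eq hs (Finset.ne_of_mem_erase hx) (congrArg Subtype.val hy.2)
    rw [Finset.mem_insert, Finset.mem_singleton]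
    exact this)
  have h2 : A.card = 3 ^ n - 1 := by
    rw [Finset.card_erase_of_mem (Finset.mem_univ _), Finset.card_univ, Fintype.card_fun,
      Fintype.card_fin, hF]
  rw [← h2]
  refine h1.trans (Nat.mul_le_mul le_rfl ?_)
  rw [Nat.card_eq_fintype_card, ← Set.toFinset_card]
  apply Finset.card_le_card
  intro T hT
  obtain ⟨x, hx, rfl⟩ := Finset.mem_image.mp hT
  rw [Set.mem_toFinset]
  obtain ⟨h, hh⟩ := exists_vecMul_eq_single x (Finset.ne_of_mem_erase hx) i
  refine ⟨h, ?_⟩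
  rw [actT_TT, vecMul_inv hh]

variable {V : Type*} [AddCommGroup V] [Module ℂ V]
  {ρ : Representation ℂ (Sp n F) V} {ψ : AddChar F ℂ}

theorem mult_rk1 [FiniteDimensional ℂ V] (hF : Fintype.card F = 3) (hψ : ψ.IsPrimitive)
    (hn : 3 ≤ n) (hE : 4 * finrank ℂ V + 1 = 9 ^ n) {i k : Fin n} (hik : i ≠ k)
    (h1 : finrank ℂ (Wt ρ ψ (TU 1 (-1) (Pi.single i 1) (Pi.single k 1))) = 1)
    {s : F} (hs : s ≠ 0) (i' : Fin n) :
    finrank ℂ (Wt ρ ψ (TT s (Pi.single i' 1))) ≤ 2 := by
  have hdis : Disjoint (Ob (TU 1 (-1) (Pi.single i 1) (Pi.single k 1) : Matrix (Fin n) (Fin n) F))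
      (Ob (TT s (Pi.single i' 1))) := by
    rw [Set.disjoint_left]
    rintro S ⟨h, hh⟩ ⟨g, hg⟩
    have h1 : TU 1 (-1) (Pi.single i 1) (Pi.single k 1) =
        actT (h⁻¹ * g) (TT s (Pi.single i' 1) : Matrix (Fin n) (Fin n) F) := by
      rw [actT_mul, ← hg, hh, ← actT_mul, inv_mul_cancel, actT_one]
    rw [actT_TT] at h1
    have e : ∀ p q, (TU 1 (-1) (Pi.single i 1) (Pi.single k 1) : Matrix (Fin n) (Fin n) F) p q =
        _ := fun p q => congrFun (congrFun h1 p) q
    have e1 := e i i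
    have e2 := e i k
    have e3 := e k k
    simp only [TU_apply, TT_apply, Pi.single_eq_same, Pi.single_eq_of_ne hik,
      Pi.single_eq_of_ne hik.symm] at e1 e2 e3
    set x := (Pi.single i' 1 : Fin n → F) ᵥ*
      (((h⁻¹ * g)⁻¹ : GL (Fin n) F) : Matrix (Fin n) (Fin n) F)
    have : (1 : F) = 0 := by
      have l1 : (1 : F) = s * (x i * x i) := by linear_combination e1
      have l2 : (0 : F) = s * (x i * x k) := by linear_combination e2
      have l3 : (-1 : F) = s * (x k * x k) := by linear_combination e3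
      linear_combination (-s * (x k * x k)) * l1 + (s * (x i * x k)) * l2 - l3
    exact one_ne_zero this
  have h3 := H495.TI.two_orbits (ρ := ρ) hψ (two_ne hF) hdis
  have c1 := card_rk1 hF hs i'
  have c2 := H495.TI.card_hyp (n := n) hF (by omega) hik
  rw [h1, mul_one] at h3
  have hX : 27 ≤ 3 ^ n := by
    calc 27 = 3 ^ 3 := by norm_num
      _ ≤ 3 ^ n := Nat.pow_le_pow_right (by norm_num) hn
  have h9 : 9 ^ n = 3 ^ n * 3 ^ n := by
    rw [← mul_pow]; norm_num
  set A := Nat.card (Ob (TT s (Pi.single i' 1) : Matrix (Fin n) (Fin n) F))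
  set B := Nat.card (Ob (TU 1 (-1) (Pi.single i 1) (Pi.single k 1) : Matrix (Fin n) (Fin n) F))
  set m := finrank ℂ (Wt ρ ψ (TT s (Pi.single i' 1)))
  obtain ⟨Y, hY⟩ : ∃ Y, 3 ^ n = Y + 3 := ⟨3 ^ n - 3, by omega⟩
  rw [hY] at c1 c2 h9 hX
  have e1 : Y + 3 - 1 = Y + 2 := by omega
  have e2 : Y + 3 - 3 = Y := by omega
  rw [e1] at c1
  rw [e1, e2] at c2
  rw [h9] at hE
  by_contra hc
  have hc' : 3 ≤ m := by omega
  have k1 : 3 * (Y + 2) ≤ 2 * (A * m) := by
    calc 3 * (Y + 2) ≤ m * (2 * A) := Nat.mul_le_mul hc' c1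
      _ = 2 * (A * m) := by ring
  nlinarith

/-- negative definite weights are the same as positive definite ones -/
theorem neg_aniso [FiniteDimensional ℂ V] (hF : Fintype.card F = 3) {i k : Fin n} (hik : i ≠ k)
    (h0 : ∀ w ∈ Wt ρ ψ (TU 1 1 (Pi.single i 1) (Pi.single k 1)), w = 0) :
    ∀ w ∈ Wt ρ ψ (TU (-1) (-1) (Pi.single i 1) (Pi.single k 1)), w = 0 := by
  have h2 := two_ne hF
  have h22 := two_eq hF
  have hli : LinearIndependent F ![(Pi.single i 1 + Pi.single k 1 : Fin n → F),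
      Pi.single i 1 - Pi.single k 1] := by
    rw [LinearIndependent.pair_iff]
    intro s t hst
    have h1 := congrFun hst i
    have h3 := congrFun hst k
    simp [hik, hik.symm] at h1 h3
    have h5 : 2 * t = 0 := by linear_combination h1 - h3
    have h6 : t = 0 := (mul_eq_zero.mp h5).resolve_left h2
    refine ⟨?_, h6⟩
    rw [h6] at h1
    linear_combination h1
  obtain ⟨P, hP0, hP1⟩ := exists_gl_pair hik hli
  have h4 : actT P⁻¹ (TU 1 1 (Pi.single i 1) (Pi.single k 1)) =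
      TU (-1) (-1) (Pi.single i 1) (Pi.single k 1) := by
    rw [actT_TU, inv_inv, hP0, hP1]
    ext p q
    rw [TU_apply, TU_apply]
    simp only [Pi.add_apply, Pi.sub_apply]
    linear_combination ((Pi.single i 1 : Fin n → F) p * (Pi.single i 1 : Fin n → F) q +
      (Pi.single k 1 : Fin n → F) p * (Pi.single k 1 : Fin n → F) q) * h22
  intro w hw
  have h5 := mm_mem_Wt P hw
  rw [← h4, ← actT_mul, mul_inv_cancel, actT_one] at h5
  apply rho_inj (ρ := ρ) (mm P)
  rw [h0 _ h5, map_zero]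

theorem TU_comm (a b : F) (x y : Fin n → F) : TU a b x y = TU b a y x := by
  rw [TU, TU, add_comm]

/-- the isotropic coefficients for the diagonal weight -/
theorem coef_pm [FiniteDimensional ℂ V] (hF : Fintype.card F = 3) (hψ : ψ.IsPrimitive)
    (hn : 3 ≤ n) (hE : 4 * finrank ℂ V + 1 = 9 ^ n) {i k l : Fin n} (hik : i ≠ k)
    (hli : l ≠ i) (hlk : l ≠ k)
    (h1 : finrank ℂ (Wt ρ ψ (TU 1 (-1) (Pi.single i 1) (Pi.single k 1))) = 1)
    {ε : F} (hε : ε * ε = 1) {v : V}
    (hv : v ∈ Wt ρ ψ (TU 1 (-1) (Pi.single i 1) (Pi.single k 1))) :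
    Pj ρ ψ (TU 1 (-1) (Pi.single i 1) (Pi.single k 1))
      (ρ (Tv 1 (Sum.elim 0 (Pi.single i 1 + ε • Pi.single k 1))) v) = (1 / 3 : ℂ) • v := by
  have h2 := two_ne hF
  have h22 := two_eq hF
  have hε0 : ε ≠ 0 := by rintro rfl; simp at hε
  set f1 : Fin n → F := Pi.single i 1 + ε • Pi.single k 1 with hf1
  set f2 : Fin n → F := Pi.single i 1 - ε • Pi.single k 1 with hf2
  have hlin : LinearIndependent F ![f1, f2] := by
    rw [LinearIndependent.pair_iff]
    intro s t hst
    have h1 := congrFun hst i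
    have h3 := congrFun hst k
    simp [hf1, hf2, hik, hik.symm] at h1 h3
    have h5 : 2 * (ε * t) = 0 := by linear_combination ε * h1 - h3
    have h6 : t = 0 := (mul_eq_zero.mp ((mul_eq_zero.mp h5).resolve_left h2)).resolve_left hε0
    refine ⟨?_, h6⟩
    rw [h6] at h1
    linear_combination h1
  obtain ⟨P, hP0, hP1⟩ := exists_gl_pair hik hlin
  have h4 : actT P⁻¹ (sE i k (-1)).1 =
      TU 1 (-1) (Pi.single i 1) (Pi.single k 1) := by
    rw [actT_sE, inv_inv, hP0, hP1]
    ext p q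
    rw [TU_apply]
    simp only [Matrix.smul_apply, Matrix.add_apply, vecMulVec_apply, hf1, hf2, Pi.add_apply,
      Pi.sub_apply, Pi.smul_apply, smul_eq_mul]
    linear_combination (-(Pi.single i 1 : Fin n → F) p * (Pi.single i 1 : Fin n → F) q +
      (Pi.single k 1 : Fin n → F) p * (Pi.single k 1 : Fin n → F) q * (ε * ε)) * h22 -
      (Pi.single k 1 : Fin n → F) p * (Pi.single k 1 : Fin n → F) q * hε
  have h5 : finrank ℂ (Wt ρ ψ (sE i k (-1)).1) = 1 := by
    rw [← finrank_Wt_actT P⁻¹, h4, h1]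
  have h6 : ∀ v ∈ Wt ρ ψ (sE i k (-1)).1, Pj ρ ψ (sE i k (-1)).1
      (ρ (Tv 1 (Sum.elim 0 (Pi.single i 1))) v) = (1 / 3 : ℂ) • v := by
    intro v hv
    by_cases hne : v = 0
    · rw [hne, map_zero, map_zero, smul_zero]
    · refine coef_iso hF hψ hik hik.symm hli hlk.symm (neg_ne_zero.mpr one_ne_zero)
        (fun s hs => mult_rk1 hF hψ hn hE hik h1 hs i) hv hne ?_
      intro u hu
      have h7 := (finrank_eq_one_iff_of_nonzero'
        (⟨v, hv⟩ : Wt ρ ψ (sE i k (-1)).1) (by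
          intro h; exact hne (congrArg Subtype.val h))).mp h5 ⟨u, hu⟩
      obtain ⟨c, hc⟩ := h7
      exact ⟨c, (congrArg Subtype.val hc).symm⟩
  have h7 := transport (ρ := ρ) (ψ := ψ) P⁻¹ h6
  rw [h4, inv_inv, hP0] at h7
  exact h7 v hv

end Cfsg.Agent.H66.TI
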