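import Cfsg.Agent.H66.TI.Hyp2

/-!
# There is no hyperbolic representation of the forbidden degree (helper66)
-/

set_option autoImplicit false
open Matrix Module Representation

namespace Cfsg.Agent.H66.TI

open Cfsg.Agent.H162.Weil

variable {F : Type*} [Field F] {n : ℕ}

theorem Tv_neg (c : F) (b : Fin n → F) :
    (Tv c (Sum.elim (0 : Fin n → F) (-b)) : Sp n F) = Tv c (Sum.elim 0 b) := by
  have h : (Sum.elim (0 : Fin n → F) (-b)) = -(Sum.elim (0 : Fin n → F) b) := by
    funext x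
    rcases x with x | x <;> simp
  apply Subtype.ext
  rw [h]
  show 1 + c • vecMulVec (-(Sum.elim (0 : Fin n → F) b))
    (Matrix.J (Fin n) F *ᵥ (-(Sum.elim (0 : Fin n → F) b))) =
    1 + c • vecMulVec (Sum.elim (0 : Fin n → F) b)
    (Matrix.J (Fin n) F *ᵥ (Sum.elim (0 : Fin n → F) b))
  rw [mulVec_neg, neg_vecMulVec, vecMulVec_neg, neg_neg]

/-- final arithmetic -/
theorem arith {X k1 k2 : ℕ} {p ε : ℂ} (hp : p * p = -1 - p) (hε : ε = 1 ∨ ε = -1)
    (h : 3 * (X : ℂ) - 2 * k1 - 4 * k2 + 2 * p * (k1 - k2) = -ε) : False := by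
  obtain ⟨e, he, hee⟩ : ∃ e : ℤ, (e = 1 ∨ e = -1) ∧ ε = (e : ℂ) := by
    rcases hε with h | h
    · exact ⟨1, Or.inl rfl, by rw [h]; norm_num⟩
    · exact ⟨-1, Or.inr rfl, by rw [h]; norm_num⟩
  rw [hee] at h
  set z : ℤ := (k1 : ℤ) - k2 with hz
  set y : ℤ := -e - 3 * X + 2 * k1 + 4 * k2 with hy
  have h1 : 2 * p * (z : ℂ) = (y : ℂ) := by
    rw [hz, hy]
    push_cast
    linear_combination h
  have h2 : ((y ^ 2 + 2 * y * z + 4 * z ^ 2 : ℤ) : ℂ) = 0 := by
    push_cast
    rw [← h1]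
    linear_combination 4 * (z : ℂ) ^ 2 * hp
  have h3 : y ^ 2 + 2 * y * z + 4 * z ^ 2 = 0 := by exact_mod_cast h2
  have h4 : z = 0 := by
    by_contra hz0
    have : 0 < z ^ 2 := by positivity
    nlinarith [sq_nonneg (y + z)]
  have h5 : y = 0 := by
    rw [h4] at h3
    have : y ^ 2 = 0 := by linarith
    exact pow_eq_zero_iff (two_ne_zero) |>.mp this
  rw [h4] at hz
  rw [h5] at hy
  omega

variable [Fintype F] {V : Type*} [AddCommGroup V] [Module ℂ V]
  {ρ : Representation ℂ (Sp n F) V} {ψ : AddChar F ℂ}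

theorem sum_split (hF : Fintype.card F = 3) (i : Fin n) (m : Sym n F → ℕ) (g : F → ℂ) :
    ∑ T : Sym n F, g (T.1 i i) * (m T : ℂ) =
      g 0 * ((∑ T : Sym n F, (by classical exact if T.1 i i = 0 then m T else 0) : ℕ) : ℂ) +
      (g 1 * ((∑ T : Sym n F, (by classical exact if T.1 i i = 1 then m T else 0) : ℕ) : ℂ) +
      g (-1) * ((∑ T : Sym n F, (by classical exact if T.1 i i = -1 then m T else 0) : ℕ) : ℂ)) := by
  classical
  have h := sum_F (F := F) hF (fun c => g c * ((∑ T : Sym n F,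
    if T.1 i i = c then m T else 0 : ℕ) : ℂ))
  rw [← h]
  have h1 : ∀ T : Sym n F, g (T.1 i i) * (m T : ℂ) =
      ∑ c : F, g c * ((if T.1 i i = c then m T else 0 : ℕ) : ℂ) := by
    intro T
    rw [Finset.sum_eq_single (T.1 i i)]
    · rw [if_pos rfl]
    · intro c _ hc
      rw [if_neg hc.symm]; simp
    · simp
  rw [Finset.sum_congr rfl fun T _ => h1 T, Finset.sum_comm]
  refine Finset.sum_congr rfl fun c _ => ?_
  rw [Nat.cast_sum, Finset.mul_sum]

/-- **The hyperbolic case is impossible.** -/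
theorem hyp_no [FiniteDimensional ℂ V] (hF : Fintype.card F = 3) (hψ : ψ.IsPrimitive)
    (hn : 3 ≤ n) (hρ : ρ.IsIrreducible) (hz : ∀ v, ρ (zz n F) v = v)
    (hE : 4 * finrank ℂ V + 1 = 9 ^ n) {i k : Fin n} (hik : i ≠ k)
    (h1 : finrank ℂ (Wt ρ ψ (TU 1 (-1) (Pi.single i 1) (Pi.single k 1))) = 1)
    (h0 : ∀ w ∈ Wt ρ ψ (TU 1 1 (Pi.single i 1) (Pi.single k 1)), w = 0) : False := by
  classical
  have h2 := two_ne hF
  have hR : RkTwo ρ ψ := H495.TI.rkTwo hψ hF hn hE
  have hz' : ρ (zz n F) = 1 := LinearMap.ext hz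
  obtain ⟨l, hli, hlk⟩ : ∃ l : Fin n, l ≠ i ∧ l ≠ k := by
    by_contra hc
    push Not at hc
    have h3 : (Finset.univ : Finset (Fin n)) ⊆ {i, k} := by
      intro l _
      rw [Finset.mem_insert, Finset.mem_singleton]
      by_cases h : l = i
      · exact Or.inl h
      · exact Or.inr (hc l h)
    have h4 := (Finset.card_le_card h3).trans Finset.card_le_two
    rw [Finset.card_univ, Fintype.card_fin] at h4
    omega
  obtain ⟨v', hv'0, hv'⟩ := finrank_eq_one_iff'.mp h1
  obtain ⟨v, hv⟩ := v'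
  have hne : v ≠ 0 := fun h => hv'0 (Subtype.ext h)
  have h1d : ∀ u ∈ Wt ρ ψ (TU 1 (-1) (Pi.single i 1) (Pi.single k 1)), ∃ c : ℂ, u = c • v := by
    intro u hu
    obtain ⟨c, hc⟩ := hv' ⟨u, hu⟩
    exact ⟨c, (congrArg Subtype.val hc).symm⟩
  have hinj : ∀ c d : ℂ, c • v = d • v → c = d := fun c d h => smul_left_injective ℂ hne h
  set β : Matrix (Fin n) (Fin n) F := TU 1 (-1) (Pi.single i 1) (Pi.single k 1) with hβ
  have hβ' : β = TU (-1) 1 (Pi.single k 1) (Pi.single i 1) := TU_comm _ _ _ _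
  -- the signs
  obtain ⟨ε, hε⟩ := h1d (ρ (mm (ht i (-1))) v) (by
    have := mm_mem_Wt (ht i (-1)) hv
    rwa [hβ, actT_ht i k hik.symm 1 (-1) (-1) (by simp)] at this)
  obtain ⟨ε', hε'⟩ := h1d (ρ (mm (ht k (-1))) v) (by
    have := mm_mem_Wt (ht k (-1)) hv
    rwa [hβ', actT_ht k i hik (-1) 1 (-1) (by simp), ← hβ'] at this)
  have hht : ht i (-1 : Fˣ) * ht i (-1) = (1 : GL (Fin n) F) := by
    rw [ht, ← dg_mul, ← Pi.mulSingle_mul]
    simp only [mul_neg, mul_one, neg_neg, Pi.mulSingle_one]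
    apply Units.ext
    rw [dg_coe]
    simp
  have hεε : ε * ε = 1 := by
    have h3 : ρ (mm (ht i (-1))) (ρ (mm (ht i (-1))) v) = v := by
      rw [← rho_mul, ← map_mul, hht, map_one, map_one, Module.End.one_apply]
    rw [hε, map_smul, hε, smul_smul] at h3
    apply hinj
    rw [h3, one_smul]
  have hε1 : ε = 1 ∨ ε = -1 := by
    have : (ε - 1) * (ε + 1) = 0 := by linear_combination hεε
    rcases mul_eq_zero.mp this with h | h
    · exact Or.inl (sub_eq_zero.mp h)
    · exact Or.inr (eq_neg_of_add_eq_zero_left h)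
  have hεeq : ε' = ε := by
    have h3 := sign_eq hF hψ hR hz' hik (one_ne_zero (α := F)) rfl hv
    rw [hε', map_smul, hε, smul_smul] at h3
    have h4 : ε' * ε = 1 := by
      apply hinj
      rw [h3, one_smul]
    linear_combination ε * h4 - ε' * hεε
  -- the coefficients
  have hex : ∀ b : Fin n → F, ∃ c : ℂ, Pj ρ ψ β (ρ (Tv 1 (Sum.elim 0 b)) v) = c • v :=
    fun b => h1d _ (Pj_mem _ _)
  choose cb hcb using hex
  have hneg : ∀ b, cb (-b) = cb b := by
    intro b
    apply hinj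
    rw [← hcb, ← hcb, Tv_neg]
  have ci : cb (Pi.single i 1) = ψ 1 * ((ψ (-1) + ε * ψ 1) / 3) := by
    apply hinj
    rw [← hcb]
    exact coef_ei hF hψ hR hik.symm (one_ne_zero (α := F)) rfl (neg_aniso hF hik h0) hv hne h1d
      hεε hε
  have ck : cb (Pi.single k 1) = ψ (-1) * ((ψ 1 + ε * ψ (-1)) / 3) := by
    apply hinj
    rw [← hcb, hβ']
    have h3 := coef_ei (ρ := ρ) (ψ := ψ) hF hψ hR (i := k) (k := i) hik (a := (-1 : F)) (b := 1)
      (neg_ne_zero.mpr one_ne_zero) (neg_neg 1).symm (by rw [TU_comm]; exact h0)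
      (v := v) (by rw [← hβ']; exact hv) hne (by rw [← hβ']; exact h1d) hεε (by rw [← hεeq]; exact hε')
    rw [neg_neg] at h3
    exact h3
  have hsq : ∀ x : F, x ≠ 0 → x * x = 1 := by
    intro x hx
    rcases three_cases hF x with h | h | h
    · exact absurd h hx
    · rw [h]; ring
    · rw [h]; ring
  have hei0 : (Pi.single i 1 : Fin n → F) i = 1 := Pi.single_eq_same _ _
  have hek0 : (Pi.single k 1 : Fin n → F) k = 1 := Pi.single_eq_same _ _
  have heik : (Pi.single i 1 : Fin n → F) k = 0 := Pi.single_eq_of_ne hik.symm _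
  have heki : (Pi.single k 1 : Fin n → F) i = 0 := Pi.single_eq_of_ne hik _
  have cother : ∀ b : Fin n → F, b ≠ 0 → b ≠ Pi.single i 1 → b ≠ -Pi.single i 1 →
      b ≠ Pi.single k 1 → b ≠ -Pi.single k 1 → cb b = 1 / 3 := by
    intro b hb b1 b2 b3 b4
    by_cases hout : ∃ j, j ≠ i ∧ j ≠ k ∧ b j ≠ 0
    · obtain ⟨j, hji, hjk, hbj⟩ := hout
      apply hinj
      rw [← hcb]
      exact coef_out hF hψ hR hik hji.symm hjk.symm (one_ne_zero (α := F)) rfl hv hbj
    · push Not at hout
      have hbs : b = b i • (Pi.single i 1 : Fin n → F) + b k • (Pi.single k 1 : Fin n → F) := by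
        funext j
        by_cases hji : j = i
        · subst hji; simp [hik]
        · by_cases hjk : j = k
          · subst hjk; simp [hji]
          · rw [hout j hji hjk]; simp [hji, hjk]
      have hbi : b i ≠ 0 := by
        intro h
        rw [h, zero_smul, zero_add] at hbs
        rcases three_cases hF (b k) with h3 | h3 | h3
        · apply hb; rw [hbs, h3, zero_smul]
        · apply b3; rw [h3, one_smul] at hbs; exact hbs
        · apply b4; rw [h3, neg_one_smul] at hbs; exact hbs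
      have hbk : b k ≠ 0 := by
        intro h
        rw [h, zero_smul, add_zero] at hbs
        rcases three_cases hF (b i) with h3 | h3 | h3
        · exact hbi h3
        · apply b1; rw [h3, one_smul] at hbs; exact hbs
        · apply b2; rw [h3, neg_one_smul] at hbs; exact hbs
      have hkey : ∀ e : F, e * e = 1 →
          cb (Pi.single i 1 + e • Pi.single k 1) = 1 / 3 := by
        intro e he
        apply hinj
        rw [← hcb]
        exact coef_pm hF hψ hn hE hik hli hlk h1 he hv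
      rcases three_cases hF (b i) with h3 | h3 | h3
      · exact absurd h3 hbi
      · rw [hbs, h3, one_smul]
        exact hkey _ (hsq _ hbk)
      · have : b = -(Pi.single i 1 + (-b k) • (Pi.single k 1 : Fin n → F)) := by
          conv_lhs => rw [hbs, h3]
          rw [neg_one_smul, neg_smul, neg_add, neg_neg]
        rw [this, hneg]
        exact hkey _ (by rw [neg_mul_neg]; exact hsq _ hbk)
  -- the sum of the coefficients
  have hp := sum_psi hF hψ (one_ne_zero (α := F))
  have hpp := psi_mul_neg (ψ := ψ) (1 : F)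
  have hp2 : ψ 1 * ψ 1 = -1 - ψ 1 := by rw [psi_sq hF, hp]
  have hsum : ∑ b ∈ Finset.univ.erase (0 : Fin n → F), cb b =
      ((3 : ℂ) ^ n - 1) / 3 + (2 * ((2 - ε) / 3) - 4 / 3) := by
    have e1 : ∑ b ∈ Finset.univ.erase (0 : Fin n → F), cb b =
        ∑ b ∈ Finset.univ.erase (0 : Fin n → F), (1 / 3 : ℂ) +
        ∑ b ∈ Finset.univ.erase (0 : Fin n → F), (cb b - 1 / 3) := by
      rw [← Finset.sum_add_distrib]
      refine Finset.sum_congr rfl fun b _ => ?_
      ring
    have e2 : ∑ b ∈ Finset.univ.erase (0 : Fin n → F), (1 / 3 : ℂ) = ((3 : ℂ) ^ n - 1) / 3 := by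
      rw [Finset.sum_const, Finset.card_erase_of_mem (Finset.mem_univ _), Finset.card_univ,
        Fintype.card_fun, Fintype.card_fin, hF, nsmul_eq_mul,
        Nat.cast_sub (Nat.one_le_pow _ _ (by norm_num))]
      push_cast
      ring
    have d1 : (Pi.single i 1 : Fin n → F) ≠ -Pi.single i 1 := by
      intro h
      have := congrFun h i
      rw [Pi.neg_apply, hei0] at this
      exact one_ne_neg hF this
    have d2 : (Pi.single k 1 : Fin n → F) ≠ -Pi.single k 1 := by
      intro h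
      have := congrFun h k
      rw [Pi.neg_apply, hek0] at this
      exact one_ne_neg hF this
    have d3 : (Pi.single i 1 : Fin n → F) ≠ Pi.single k 1 := by
      intro h
      have := congrFun h i
      rw [hei0, heki] at this
      exact one_ne_zero this
    have d4 : (Pi.single i 1 : Fin n → F) ≠ -Pi.single k 1 := by
      intro h
      have := congrFun h i
      rw [Pi.neg_apply, hei0, heki, neg_zero] at this
      exact one_ne_zero this
    have d5 : (-Pi.single i 1 : Fin n → F) ≠ Pi.single k 1 := by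
      intro h
      have := congrFun h i
      rw [Pi.neg_apply, hei0, heki] at this
      exact neg_ne_zero.mpr one_ne_zero this
    have d6 : (-Pi.single i 1 : Fin n → F) ≠ -Pi.single k 1 := fun h => d3 (neg_injective h)
    have z1 : (Pi.single i 1 : Fin n → F) ≠ 0 := by
      intro h
      have := congrFun h i
      rw [hei0] at this
      exact one_ne_zero this
    have z2 : (Pi.single k 1 : Fin n → F) ≠ 0 := by
      intro h
      have := congrFun h k
      rw [hek0] at this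
      exact one_ne_zero this
    have e3 : ∑ b ∈ Finset.univ.erase (0 : Fin n → F), (cb b - 1 / 3) =
        ∑ b ∈ ({Pi.single i 1, -Pi.single i 1, Pi.single k 1, -Pi.single k 1} :
          Finset (Fin n → F)), (cb b - 1 / 3) := by
      symm
      apply Finset.sum_subset
      · intro b hb
        rw [Finset.mem_erase]
        refine ⟨?_, Finset.mem_univ _⟩
        simp only [Finset.mem_insert, Finset.mem_singleton] at hb
        rcases hb with rfl | rfl | rfl | rfl
        · exact z1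
        · exact neg_ne_zero.mpr z1
        · exact z2
        · exact neg_ne_zero.mpr z2
      · intro b hb hb'
        simp only [Finset.mem_insert, Finset.mem_singleton, not_or] at hb'
        rw [cother b (Finset.ne_of_mem_erase hb) hb'.1 hb'.2.1 hb'.2.2.1 hb'.2.2.2, sub_self]
    rw [e1, e2, e3, Finset.sum_insert, Finset.sum_insert, Finset.sum_insert,
      Finset.sum_singleton, hneg, hneg, ci, ck, hp]
    · linear_combination (4 / 3 * ε - 4 / 3) * hp2 
    · simpa using d2
    · simpa using ⟨d5, d3⟩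
    · simpa using ⟨d1, d3, d4⟩
  -- the central character
  obtain ⟨μ, hμ, htr⟩ := Aop_scalar hρ i (1 : F)
  have hμval : μ = 3 ^ (n - 1) + 3 ^ n *
      (((3 : ℂ) ^ n - 1) / 3 + (2 * ((2 - ε) / 3) - 4 / 3)) := by
    have h3 := Aop_proj hv
    rw [hμ, map_smul, Pj_of_mem hv, Finset.sum_congr rfl fun b _ => hcb b, ← Finset.sum_smul,
      hsum, smul_smul, ← add_smul, hF] at h3
    have h4 := hinj _ _ h3
    rw [h4]
    have h5 : ∑ a : Fin n → F, ψ (pr β (sV 1 a).1) = (3 : ℂ) ^ (n - 1) := by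
      rw [← gauss_sum hF hψ (by omega) hik]
      refine Finset.sum_congr rfl fun a _ => ?_
      congr 1
      rw [hβ, pr_TU]
      simp [sV, vecMulVec_apply]
      ring
    rw [h5]
    norm_num
  -- multiplicities
  have hτ := char_uu (ρ := ρ) hψ h2 (sD i (1 : F))
  simp only [pr_sD, one_mul] at hτ
  rw [sum_split hF i (fun T : Sym n F => finrank ℂ (Wt ρ ψ T.1)) (fun x => ψ x)] at hτ
  have hdim := finrank_eq_sum (ρ := ρ) hψ h2
  have hdim' : (finrank ℂ V : ℂ) = ∑ T : Sym n F, (1 : ℂ) * (finrank ℂ (Wt ρ ψ T.1) : ℂ) := by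
    rw [hdim]; push_cast; simp
  rw [sum_split hF i (fun T : Sym n F => finrank ℂ (Wt ρ ψ T.1)) (fun _ => (1 : ℂ))] at hdim'
  obtain ⟨k1, hk1⟩ := dvd_sum (ρ := ρ) (ψ := ψ) i (one_ne_zero (α := F))
  obtain ⟨k2, hk2⟩ := dvd_sum (ρ := ρ) (ψ := ψ) i (neg_ne_zero.mpr (one_ne_zero (α := F)))
  rw [hF] at hk1 hk2
  rw [hk1, hk2] at hτ hdim'
  rw [hp, AddChar.map_zero_eq_one] at hτ
  generalize (∑ T : Sym n F, (if T.1 i i = 0 then finrank ℂ (Wt ρ ψ T.1) else 0) : ℕ) = M0
    at hτ hdim'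
  obtain ⟨X, hX⟩ : ∃ X : ℕ, X = 3 ^ (n - 1) := ⟨_, rfl⟩
  have hXc : (3 : ℂ) ^ (n - 1) = (X : ℂ) := by rw [hX]; push_cast; rfl
  have h3n : (3 : ℂ) ^ n = 3 * (X : ℂ) := by
    rw [← hXc, ← pow_succ']
    congr 1
    omega
  have hX0 : (X : ℂ) ≠ 0 := by
    rw [← hXc]; exact pow_ne_zero _ (by norm_num)
  have hEc : 4 * (finrank ℂ V : ℂ) + 1 = 9 * (X : ℂ) * X := by
    have h3 : ((4 * finrank ℂ V + 1 : ℕ) : ℂ) = ((9 ^ n : ℕ) : ℂ) := by rw [hE]
    push_cast at h3
    rw [h3]
    have : (9 : ℂ) ^ n = 3 ^ n * 3 ^ n := by rw [← mul_pow]; norm_num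
    rw [this, h3n]; ring
  rw [hXc, h3n] at hμval
  rw [← hX] at hτ hdim'
  push_cast at hτ hdim'
  have hpow : (Fintype.card F : ℂ) ^ (2 * n) = 9 * (X : ℂ) * X := by
    rw [hF, mul_comm, pow_mul]
    push_cast
    rw [h3n]; ring
  rw [hpow, hτ] at htr
  have hE0 : (finrank ℂ V : ℂ) ≠ 0 := by
    intro h
    rw [h] at hEc
    have h3 : ((1 : ℕ) : ℂ) = ((9 * X * X : ℕ) : ℂ) := by push_cast; linear_combination hEc
    have h4 : 1 = 9 * X * X := by exact_mod_cast h3
    have : 9 ∣ 1 := ⟨X * X, by rw [h4]; ring⟩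
    omega
  have hμτ : μ = 1 + 4 * (1 * (M0 : ℂ) + (ψ 1 * (X * k1) + (-1 - ψ 1) * (X * k2))) := by
    apply mul_right_cancel₀ hE0
    linear_combination htr - (1 * (M0 : ℂ) + (ψ 1 * (X * k1) + (-1 - ψ 1) * (X * k2))) * hEc
  refine arith (X := X) (k1 := k1) (k2 := k2) hp2 hε1 ?_
  apply mul_left_cancel₀ (mul_ne_zero (two_ne_zero (α := ℂ)) hX0)
  linear_combination hμval - hμτ + 4 * hdim' - hEc

end Cfsg.Agent.H66.TI
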