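import Cfsg.Agent.H66.TI.Out
import Mathlib.LinearAlgebra.Eigenspace.Basic

/-!
# The isotropic coefficient (helper66)
-/

set_option autoImplicit false
open Matrix Module Representation

namespace Cfsg.Agent.H66.TI

open Cfsg.Agent.H162.Weil

variable {F : Type*} [Field F] {n : ℕ}

theorem tv_comm_row {k l i : Fin n} (hki : k ≠ i) (hli : l ≠ i) (hkl : k ≠ l) (c r : F) :
    tv k l hkl c * tv l i hli r = tv l i hli r * tv k i hki (c * r) * tv k l hkl c := by
  apply Units.ext
  rw [Units.val_mul, Units.val_mul, Units.val_mul, tv_coe, tv_coe, tv_coe]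
  simp only [Matrix.mul_add, Matrix.add_mul, Matrix.mul_one, Matrix.one_mul,
    single_mul_single_same, single_mul_single_of_ne _ _ _ _ hki.symm,
    single_mul_single_of_ne _ _ _ _ hkl.symm, single_mul_single_of_ne _ _ _ _ hli.symm,
    add_zero, zero_add, Matrix.zero_mul]
  abel

theorem tv_comm_col {k l i : Fin n} (hki : k ≠ i) (hkl : k ≠ l) (hli : l ≠ i) (c r : F) :
    tv k i hki r * tv k l hkl c = tv k l hkl c * tv k i hki r := by
  apply Units.ext
  rw [Units.val_mul, Units.val_mul, tv_coe, tv_coe]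
  simp only [Matrix.mul_add, Matrix.add_mul, Matrix.mul_one, Matrix.one_mul,
    single_mul_single_of_ne _ _ _ _ hki.symm,
    single_mul_single_of_ne _ _ _ _ hkl.symm, add_zero]
  abel

theorem tv_comm_i {k l i : Fin n} (hki : k ≠ i) (hli : l ≠ i) (c r : F) :
    tv k i hki r * tv l i hli c = tv l i hli c * tv k i hki r := by
  apply Units.ext
  rw [Units.val_mul, Units.val_mul, tv_coe, tv_coe]
  simp only [Matrix.mul_add, Matrix.add_mul, Matrix.mul_one, Matrix.one_mul,
    single_mul_single_of_ne _ _ _ _ hki.symm,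
    single_mul_single_of_ne _ _ _ _ hli.symm, add_zero]
  abel

variable [Fintype F] {V : Type*} [AddCommGroup V] [Module ℂ V]
  {ρ : Representation ℂ (Sp n F) V} {ψ : AddChar F ℂ}

/-- Fourier projection for a one parameter group. -/
theorem exists_eigen (hF : Fintype.card F = 3) (hψ : ψ.IsPrimitive) {k i : Fin n} (hki : k ≠ i)
    (v : V) (hv : v ≠ 0) : ∃ p : F,
      (∑ r : F, ψ (-(p * r)) • ρ (mm (tv k i hki r)) v) ≠ 0 := by
  classical
  by_contra hc
  push Not at hc
  have h1 : ∑ p : F, ∑ r : F, ψ (-(p * r)) • ρ (mm (tv k i hki r)) v = 0 :=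
    Finset.sum_eq_zero fun p _ => hc p
  rw [Finset.sum_comm] at h1
  have h3 : ∀ r : F, ∑ p : F, ψ (-(p * r)) • ρ (mm (tv k i hki r)) v =
      if r = 0 then (3 : ℂ) • v else 0 := by
    intro r
    rw [← Finset.sum_smul]
    split_ifs with hr
    · subst hr
      have e1 : tv k i hki (0 : F) = 1 := by
        apply Units.ext
        rw [tv_coe]; simp
      rw [e1, map_one, map_one, Module.End.one_apply]
      congr 1
      simp [hF]
    · have : ∑ p : F, ψ (-(p * r)) = 0 := by
        have h5 := AddChar.sum_eq_zero_of_ne_one (hψ (neg_ne_zero.mpr hr))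
        rw [← h5]
        refine Finset.sum_congr rfl fun p _ => ?_
        rw [AddChar.mulShift_apply]
        congr 1; ring
      rw [this, zero_smul]
  rw [Finset.sum_congr rfl fun r _ => h3 r, Finset.sum_ite_eq' Finset.univ (0 : F),
    if_pos (Finset.mem_univ _)] at h1
  exact hv ((smul_eq_zero.mp h1).resolve_left (by norm_num))

theorem eigen_apply {k i : Fin n} (hki : k ≠ i) (v : V) (p s : F) :
    ρ (mm (tv k i hki s)) (∑ r : F, ψ (-(p * r)) • ρ (mm (tv k i hki r)) v) =
      ψ (p * s) • ∑ r : F, ψ (-(p * r)) • ρ (mm (tv k i hki r)) v := by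
  rw [map_sum, Finset.smul_sum]
  refine Fintype.sum_equiv (Equiv.addLeft s) _ _ fun r => ?_
  rw [map_smul, ← rho_mul, ← map_mul, ← tv_add, smul_smul, Equiv.coe_addLeft,
    ← AddChar.map_add_eq_mul]
  congr 2
  ring

theorem tv_TT {k l i : Fin n} (hkl : k ≠ l) (hki : k ≠ i) (s c : F) {z : V}
    (hz : z ∈ Wt ρ ψ (TT s (Pi.single i 1))) :
    ρ (mm (tv k l hkl c)) z ∈ Wt ρ ψ (TT s (Pi.single i 1)) := by
  have h := mm_mem_TT (tv k l hkl c) hz
  rwa [tv_inv_coe, vecMul_add, vecMul_one, vecMul_sgl, Pi.single_eq_of_ne hki, zero_mul,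
    Pi.single_zero, add_zero] at h

/-- Small multiplicity of a rank one weight makes the transvections trivial. -/
theorem tv_triv [FiniteDimensional ℂ V] (hF : Fintype.card F = 3) (hψ : ψ.IsPrimitive)
    {k l i : Fin n} (hki : k ≠ i) (hli : l ≠ i) (hkl : k ≠ l) {s : F}
    (hm : finrank ℂ (Wt ρ ψ (TT s (Pi.single i 1))) ≤ 2) {z : V}
    (hz : z ∈ Wt ρ ψ (TT s (Pi.single i 1))) (r : F) :
    ρ (mm (tv k i hki r)) z = z := by
  classical
  set U := Wt ρ ψ (TT s (Pi.single i 1)) with hU
  -- the projections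
  let P : F → V := fun p => ∑ r : F, ψ (-(p * r)) • ρ (mm (tv k i hki r)) z
  have hPmem : ∀ p, P p ∈ U := by
    intro p
    exact Submodule.sum_mem _ fun r _ => Submodule.smul_mem _ _ (tv_TT hki hki s r hz)
  -- no nontrivial character
  have hP0 : ∀ p, p ≠ 0 → P p = 0 := by
    intro p hp
    by_contra hne
    obtain ⟨q, hq⟩ := exists_eigen (ρ := ρ) hF hψ hli (P p) hne
    set z2 := ∑ r : F, ψ (-(q * r)) • ρ (mm (tv l i hli r)) (P p) with hz2
    have hz2U : z2 ∈ U :=
      Submodule.sum_mem _ fun r _ => Submodule.smul_mem _ _ (tv_TT hli hli s r (hPmem p))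
    have hR : ∀ c, ρ (mm (tv k i hki c)) z2 = ψ (p * c) • z2 := by
      intro c
      rw [hz2, map_sum, Finset.smul_sum]
      refine Finset.sum_congr rfl fun r _ => ?_
      rw [map_smul, ← rho_mul, ← map_mul, tv_comm_i, map_mul, rho_mul]
      show _ • ρ (mm (tv l i hli r)) (ρ (mm (tv k i hki c)) (P p)) = _
      have : ρ (mm (tv k i hki c)) (P p) = ψ (p * c) • P p := eigen_apply hki z p c
      rw [this, map_smul, smul_comm]
    have hR' : ∀ c, ρ (mm (tv l i hli c)) z2 = ψ (q * c) • z2 :=
      fun c => eigen_apply hli (P p) q c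
    -- the three eigenvectors
    let y : F → V := fun c => ρ (mm (tv k l hkl c)) z2
    have hy : ∀ c, ρ (mm (tv l i hli 1)) (y c) = ψ (q - p * c) • y c := by
      intro c
      have h1 := congrArg (fun g => ρ (mm g) z2) (tv_comm_row hki hli hkl c (1 : F))
      simp only [map_mul, Module.End.mul_apply] at h1
      rw [hR', map_smul, ← rho_mul (mm (tv k i hki (c * 1))), ← map_mul mm,
        tv_comm_col hki hkl hli, map_mul mm, rho_mul, hR, map_smul, map_smul, mul_one,
        mul_one] at h1
      have h3 := congrArg (fun w => ψ (-(p * c)) • w) h1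
      simp only [smul_smul, ← AddChar.map_add_eq_mul] at h3
      rw [neg_add_cancel, AddChar.map_zero_eq_one, one_smul] at h3
      show ρ (mm (tv l i hli 1)) (ρ (mm (tv k l hkl c)) z2) = _
      rw [← h3]
      congr 2
      ring
    have hyne : ∀ c, y c ≠ 0 := by
      intro c h
      apply hq
      apply rho_inj (ρ := ρ) (mm (tv k l hkl c))
      rw [map_zero]; exact h
    have hinj : Function.Injective (fun c : F => ψ (q - p * c)) := by
      intro c d h
      by_contra hcd
      have h1 : ψ (p * (d - c)) = 1 := by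
        have e : p * (d - c) = (q - p * c) + -(q - p * d) := by ring
        rw [e, AddChar.map_add_eq_mul]
        simp only at h
        rw [h, psi_mul_neg]
      exact psi_ne_one hF hψ (mul_ne_zero hp (sub_ne_zero.mpr (Ne.symm hcd))) h1
    have hli3 : LinearIndependent ℂ y := by
      apply Module.End.eigenvectors_linearIndependent' (ρ (mm (tv l i hli 1)))
        (fun c : F => ψ (q - p * c)) hinj y
      intro c
      exact ⟨Module.End.mem_eigenspace_iff.mpr (hy c), hyne c⟩
    have hyU : ∀ c, y c ∈ U := fun c => tv_TT hkl hki s c hz2U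
    have h5 : LinearIndependent ℂ (fun c : F => (⟨y c, hyU c⟩ : U)) := by
      apply LinearIndependent.of_comp U.subtype
      exact hli3
    have h6 := h5.fintype_card_le_finrank
    rw [hF] at h6
    omega
  -- conclusion
  have h1 : ∑ p : F, P p = (3 : ℂ) • z := by
    show ∑ p : F, ∑ r : F, ψ (-(p * r)) • ρ (mm (tv k i hki r)) z = _
    rw [Finset.sum_comm]
    have h3 : ∀ r : F, ∑ p : F, ψ (-(p * r)) • ρ (mm (tv k i hki r)) z =
        if r = 0 then (3 : ℂ) • z else 0 := by
      intro r
      rw [← Finset.sum_smul]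
      split_ifs with hr
      · subst hr
        have e1 : tv k i hki (0 : F) = 1 := by
          apply Units.ext
          rw [tv_coe]; simp
        rw [e1, map_one, map_one, Module.End.one_apply]
        congr 1
        simp [hF]
      · have : ∑ p : F, ψ (-(p * r)) = 0 := by
          have h5 := AddChar.sum_eq_zero_of_ne_one (hψ (neg_ne_zero.mpr hr))
          rw [← h5]
          refine Finset.sum_congr rfl fun p _ => ?_
          rw [AddChar.mulShift_apply]
          congr 1; ring
        rw [this, zero_smul]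
    rw [Finset.sum_congr rfl fun r _ => h3 r, Finset.sum_ite_eq' Finset.univ (0 : F),
      if_pos (Finset.mem_univ _)]
  rw [Finset.sum_eq_single 0 (fun p _ hp => hP0 p hp) (by simp)] at h1
  have h3 : ρ (mm (tv k i hki r)) (P 0) = P 0 := by
    have := eigen_apply (ρ := ρ) (ψ := ψ) hki z 0 r
    rw [zero_mul, AddChar.map_zero_eq_one, one_smul] at this
    exact this
  rw [h1, map_smul] at h3
  exact smul_right_injective V (by norm_num : (3 : ℂ) ≠ 0) h3

end Cfsg.Agent.H66.TI
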