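import Cfsg.Agent.H66.TI.Iso

/-!
# The isotropic coefficient: main computation (helper66)
-/

set_option autoImplicit false
open Matrix Module Representation

namespace Cfsg.Agent.H66.TI

open Cfsg.Agent.H162.Weil

variable {F : Type*} [Field F] {n : ℕ}

theorem sE_coe (i k : Fin n) (c : F) : (sE i k c).1 = single i k c + single k i c := rfl

theorem actT_H {i k : Fin n} (hki : k ≠ i) (c w : F) :
    actT (tv k i hki (-w)) (sE i k c).1 = (sE i k c).1 + (sD i (2 * c * w)).1 := by
  rw [actT, tv_inv_coe, neg_neg, sE_coe]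
  show _ = single i k c + single k i c + single i i (2 * c * w)
  simp only [transpose_add, transpose_one, transpose_single, Matrix.mul_add, Matrix.add_mul,
    Matrix.mul_one, Matrix.one_mul, single_mul_single_same,
    single_mul_single_of_ne _ _ _ _ hki.symm, single_mul_single_of_ne _ _ _ _ hki,
    add_zero, zero_add]
  have e : single i i (2 * c * w) = single i i (w * c) + single i i (c * w) := by
    rw [← single_add]; congr 1; ring
  rw [e]
  abel

theorem actT_H_out {i k l : Fin n} (hik : i ≠ k) (hli : l ≠ i) (hlk : l ≠ k) (c r : F) :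
    actT (tv l i hli r) (sE i k c).1 = (sE i k c).1 := by
  rw [actT, tv_inv_coe, sE_coe]
  simp only [transpose_add, transpose_one, transpose_single, Matrix.mul_add, Matrix.add_mul,
    Matrix.mul_one, Matrix.one_mul, 
    single_mul_single_of_ne _ _ _ _ hlk.symm, single_mul_single_of_ne _ _ _ _ hli.symm,
    single_mul_single_of_ne _ _ _ _ hlk, single_mul_single_of_ne _ _ _ _ hli,
    add_zero, zero_add]

theorem actT_H_ht {i k l : Fin n} (hik : i ≠ k) (hli : l ≠ i) (hlk : l ≠ k) (c : F) (t : Fˣ) :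
    actT (ht l t) (sE i k c).1 = (sE i k c).1 := by
  rw [actT, ht_inv, ht_coe, sE_coe]
  simp only [transpose_add, transpose_one, transpose_single, Matrix.mul_add, Matrix.add_mul,
    Matrix.mul_one, Matrix.one_mul, 
    single_mul_single_of_ne _ _ _ _ hlk.symm, single_mul_single_of_ne _ _ _ _ hli.symm,
    single_mul_single_of_ne _ _ _ _ hlk, single_mul_single_of_ne _ _ _ _ hli,
    add_zero, zero_add]

theorem ht_tv {i l : Fin n} (hli : l ≠ i) (r : F) :
    ht l (-1) * tv l i hli r = tv l i hli (-r) * ht l (-1) := by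
  apply Units.ext
  rw [Units.val_mul, Units.val_mul, tv_coe, tv_coe, ht_coe]
  simp only [Matrix.mul_add, Matrix.add_mul, Matrix.mul_one, Matrix.one_mul,
    single_mul_single_same, single_mul_single_of_ne _ _ _ _ hli.symm, add_zero]
  have e2 : single l i ((((-1 : Fˣ) : F) - 1) * r) = single l i (-r) + single l i (-r) := by
    rw [← single_add]; congr 1; rw [Units.val_neg, Units.val_one]; ring
  have e3 : single l i r + single l i (-r) = (0 : Matrix (Fin n) (Fin n) F) := by
    rw [← single_add, add_neg_cancel, single_zero]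
  rw [e2]
  have : (1 + single l l (((-1 : Fˣ) : F) - 1) + (single l i r + (single l i (-r) + single l i (-r))) :
      Matrix (Fin n) (Fin n) F) =
      1 + single l l (((-1 : Fˣ) : F) - 1) + ((single l i r + single l i (-r)) +
        single l i (-r)) := by abel
  rw [this, e3]
  abel

theorem pr_zero_of_row {i : Fin n} {T S : Matrix (Fin n) (Fin n) F}
    (hT : ∀ a b, a ≠ i → b ≠ i → T a b = 0) (hS : ∀ l, S i l = 0) (hSs : ∀ l, S l i = 0) :
    pr T S = 0 := by
  simp only [pr]
  refine Finset.sum_eq_zero fun k _ => Finset.sum_eq_zero fun l _ => ?_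
  by_cases hk : k = i
  · rw [hk, hS, mul_zero]
  · by_cases hl : l = i
    · rw [hl, hSs, mul_zero]
    · rw [hT k l hk hl, zero_mul]

variable [Fintype F] {V : Type*} [AddCommGroup V] [Module ℂ V]
  {ρ : Representation ℂ (Sp n F) V} {ψ : AddChar F ℂ}

theorem tv_out_triv (hF : Fintype.card F = 3) {i k l : Fin n} (hik : i ≠ k) (hli : l ≠ i)
    (hlk : l ≠ k) {c : F} {v : V} (hv : v ∈ Wt ρ ψ (sE i k c).1) (hne : v ≠ 0)
    (h1d : ∀ u ∈ Wt ρ ψ (sE i k c).1, ∃ c : ℂ, u = c • v) (r : F) :
    ρ (mm (tv l i hli r)) v = v := by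
  have hst : ∀ h : GL (Fin n) F, actT h (sE i k c).1 = (sE i k c).1 →
      ∃ μ : ℂ, ρ (mm h) v = μ • v := by
    intro h hh
    apply h1d
    have := mm_mem_Wt h hv
    rwa [hh] at this
  obtain ⟨μ, hμ⟩ := hst _ (actT_H_out hik hli hlk c r)
  obtain ⟨μ', hμ'⟩ := hst _ (actT_H_out hik hli hlk c (-r))
  obtain ⟨ν, hν⟩ := hst _ (actT_H_ht hik hli hlk c (-1))
  have hinj : ∀ c d : ℂ, c • v = d • v → c = d := fun c d h => smul_left_injective ℂ hne h
  have hν0 : ν ≠ 0 := by
    intro h
    rw [h, zero_smul] at hν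
    apply hne
    apply rho_inj (ρ := ρ) (mm (ht l (-1)))
    rw [hν, map_zero]
  have h1 : ν * μ = μ' * ν := by
    have := congrArg (fun g => ρ (mm g) v) (ht_tv (i := i) hli r)
    simp only [map_mul, Module.End.mul_apply] at this
    rw [hμ, map_smul, hν, map_smul, hμ', smul_smul, smul_smul] at this
    have := hinj _ _ this
    linear_combination this
  have h3 : μ = μ' := mul_left_cancel₀ hν0 (by rw [h1]; ring)
  have h4 : μ * μ' = 1 := by
    have : ρ (mm (tv l i hli r)) (ρ (mm (tv l i hli (-r))) v) = v := by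
      rw [← rho_mul, ← map_mul, ← tv_add, add_neg_cancel]
      have e1 : tv l i hli (0 : F) = 1 := by
        apply Units.ext
        rw [tv_coe]; simp
      rw [e1, map_one, map_one, Module.End.one_apply]
    rw [hμ', map_smul, hμ, smul_smul] at this
    apply hinj
    rw [one_smul, mul_comm]
    exact this
  have h5 : μ * μ = μ' := by
    have : ρ (mm (tv l i hli r)) (ρ (mm (tv l i hli r)) v) = ρ (mm (tv l i hli (-r))) v := by
      rw [← rho_mul, ← map_mul, ← tv_add]
      have e : r + r = -r := by linear_combination r * three_zero hF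
      rw [e]
    rw [hμ, map_smul, hμ, smul_smul, hμ'] at this
    exact hinj _ _ this
  have h6 : μ = 1 := by
    rw [← h3] at h4 h5
    rw [h4] at h5
    exact h5.symm
  rw [hμ, h6, one_smul]

/-- **The isotropic coefficient.** -/
theorem coef_iso [FiniteDimensional ℂ V] (hF : Fintype.card F = 3) (hψ : ψ.IsPrimitive)
    {i k l₀ : Fin n} (hik : i ≠ k) (hki : k ≠ i) (hli : l₀ ≠ i) (hlk : k ≠ l₀) {c : F} (hc : c ≠ 0)
    (hm : ∀ s : F, s ≠ 0 → finrank ℂ (Wt ρ ψ (TT s (Pi.single i 1))) ≤ 2)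
    {v : V} (hv : v ∈ Wt ρ ψ (sE i k c).1) (hne : v ≠ 0)
    (h1d : ∀ u ∈ Wt ρ ψ (sE i k c).1, ∃ c : ℂ, u = c • v) :
    Pj ρ ψ (sE i k c).1 (ρ (Tv 1 (Sum.elim 0 (Pi.single i 1))) v) = (1 / 3 : ℂ) • v := by
  classical
  have h2 := two_ne hF
  have hHii : (sE i k c).1 i i = 0 := sE_zero_of_ne _ _ _ _ _ (fun h => hik h.2) (fun h => hik h.1)
  have hHki : (sE i k c).1 k i = c := by rw [sE_coe]; simp [hik]
  have hHik : (sE i k c).1 i k = c := by rw [sE_coe]; simp [hik]
  have hH0 : ∀ a b, a ≠ i → b ≠ i → (sE i k c).1 a b = 0 := fun a b ha hb =>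
    sE_zero_of_ne _ _ _ _ _ (fun h => ha h.1) (fun h => hb h.2)
  have hDii : ∀ x : F, (sD i x).1 i i = x := fun x => by simp [sD]
  have hDne : ∀ (x : F) (a b : Fin n), a ≠ i ∨ b ≠ i → (sD i x).1 a b = 0 := fun x a b h =>
    sD_zero_of_ne _ _ _ _ (fun h' => by rcases h with h | h; exact h h'.1; exact h h'.2)
  -- the translates
  let N : F → V := fun w => ρ (mm (tv k i hki (-w))) v
  have hN : ∀ w, N w ∈ Wt ρ ψ ((sE i k c).1 + (sD i (2 * c * w)).1) := by
    intro w
    have := mm_mem_Wt (tv k i hki (-w)) hv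
    rwa [actT_H] at this
  set σs : V := ∑ w : F, N w with hσ
  set u : V := ρ (ww i) σs with hu
  have hNN : ∀ r w : F, ρ (mm (tv k i hki (-r))) (N w) = N (r + w) := by
    intro r w
    show ρ (mm (tv k i hki (-r))) (ρ (mm (tv k i hki (-w))) v) = ρ (mm (tv k i hki (-(r + w)))) v
    rw [← rho_mul, ← map_mul, ← tv_add]
    have e : -r + -w = -(r + w) := by ring
    rw [e]
  have hNσ : ∀ r : F, ρ (mm (tv k i hki r)) σs = σs := by
    intro r
    rw [hσ, map_sum]
    refine Fintype.sum_equiv (Equiv.addLeft (-r)) _ _ fun w => ?_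
    rw [Equiv.coe_addLeft, ← hNN, neg_neg]
  -- step 1
  have s1 : ∀ S : Sym n F, (∀ l, S.1 i l = 0) → ρ (uu S) u = u := by
    intro S hS
    rw [hu, ← rho_mul, ← ww_comm_uu i S hS, rho_mul]
    congr 1
    rw [hσ, map_sum]
    refine Finset.sum_congr rfl fun w _ => ?_
    rw [hN w S, pr_zero_of_row (i := i) _ hS (fun l => by rw [Sym.apply]; exact hS l),
      AddChar.map_zero_eq_one, one_smul]
    intro a b ha hb
    rw [Matrix.add_apply, hH0 a b ha hb, hDne _ _ _ (Or.inl ha), add_zero]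
  -- step 2
  have s2 : ∀ r : F, ρ (uu (sE k i r)) u = u := by
    intro r
    have h := ww_mul_mm k i hki (-r)
    rw [neg_neg] at h
    rw [hu, ← rho_mul, ← h, rho_mul, hNσ]
  -- step 3
  have s3 : ∀ l, ∀ hl : l ≠ i, l ≠ k → ∀ r : F, ρ (uu (sE l i r)) u = u := by
    intro l hl hlk r
    have h := ww_mul_mm l i hl (-r)
    rw [neg_neg] at h
    rw [hu, ← rho_mul, ← h, rho_mul]
    congr 1
    rw [hσ, map_sum]
    refine Finset.sum_congr rfl fun w _ => ?_
    show ρ (mm (tv l i hl (-r))) (ρ (mm (tv k i hki (-w))) v) = ρ (mm (tv k i hki (-w))) v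
    rw [← rho_mul, ← map_mul, tv_comm_i, map_mul, rho_mul, tv_out_triv hF hik hl hlk hv hne h1d]
  -- step 4
  have s4 : ∀ r : F, ρ (mm (tv k i hki r)) u = ψ (r * (2 * c)) • u := by
    intro r
    have h := ww_mul_uu k i hki r
    rw [hu, ← rho_mul, ← h, rho_mul, ← map_smul]
    congr 1
    rw [hσ, map_sum, Finset.smul_sum]
    refine Finset.sum_congr rfl fun w _ => ?_
    rw [hN w (sE k i r), pr_sE, Matrix.add_apply, Matrix.add_apply, hHki, hHik,
      hDne _ _ _ (Or.inl hki), hDne _ _ _ (Or.inr hki), add_zero, ← two_mul]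
  -- step 5
  have s5 : ∀ (S : Sym n F) (s : F), ρ (uu (sD i s)) (Pj ρ ψ S.1 u) = Pj ρ ψ S.1 u := by
    intro S s
    by_cases h0 : Pj ρ ψ S.1 u = 0
    · rw [h0, map_zero]
    have hSm := Pj_mem (ρ := ρ) (ψ := ψ) S.1 u
    have key : ∀ S' : Sym n F, ρ (uu S') u = u → ψ (pr S.1 S'.1) = 1 := by
      intro S' h
      have h3 := hSm S'
      rw [rho_uu_Pj, h] at h3
      have h4 : (ψ (pr S.1 S'.1) - 1) • Pj ρ ψ S.1 u = 0 := by
        rw [sub_smul, one_smul, ← h3, sub_self]
      exact sub_eq_zero.mp ((smul_eq_zero.mp h4).resolve_right h0)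
    have hab : ∀ a b, a ≠ i → b ≠ i → S.1 a b = 0 := by
      intro a b ha hb
      by_contra hne'
      by_cases hab : a = b
      · subst hab
        obtain ⟨t, ht⟩ := exists_ne_one hψ hne'
        apply ht
        rw [← pr_sD]
        exact key _ (s1 _ (fun l => sD_zero_of_ne _ _ _ _ (fun h => ha h.1.symm)))
      · obtain ⟨t, ht⟩ := exists_ne_one hψ (mul_ne_zero h2 hne')
        apply ht
        have := key _ (s1 (sE a b t) (fun l => sE_zero_of_ne _ _ _ _ _ (fun h => ha h.1.symm)
          (fun h => hb h.1.symm)))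
        rw [pr_sE, Sym.apply S b a, ← two_mul] at this
        exact this
    have hil : ∀ l, l ≠ i → S.1 i l = 0 := by
      intro l hl
      by_contra hne'
      obtain ⟨t, ht⟩ := exists_ne_one hψ (mul_ne_zero h2 hne')
      apply ht
      have : ψ (pr S.1 (sE l i t).1) = 1 := by
        apply key
        by_cases hlk' : l = k
        · subst hlk'; exact s2 t
        · exact s3 l hl hlk' t
      rw [pr_sE, Sym.apply S l i, ← two_mul] at this
      exact this
    have hSTT : S.1 = TT (S.1 i i) (Pi.single i 1) := by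
      ext a b
      rw [TT_apply]
      by_cases ha : a = i
      · subst ha
        by_cases hb : b = a
        · subst hb; simp
        · rw [hil b hb, Pi.single_eq_of_ne hb]; ring
      · rw [Pi.single_eq_of_ne ha]
        by_cases hb : b = i
        · subst hb; rw [Sym.apply, hil a ha]; ring
        · rw [hab a b ha hb]; ring
    by_cases hSii : S.1 i i = 0
    · rw [hSm, pr_sD, hSii, mul_zero, AddChar.map_zero_eq_one, one_smul]
    · exfalso
      obtain ⟨t, ht⟩ := exists_ne_one hψ (mul_ne_zero h2 hc)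
      apply ht
      have hz : Pj ρ ψ S.1 u ∈ Wt ρ ψ (TT (S.1 i i) (Pi.single i 1)) := by
        rw [← hSTT]; exact hSm
      have h7 := tv_triv hF hψ hki hli hlk (hm _ hSii) hz t
      have h8 : actT (tv k i hki t) S.1 = S.1 := by
        rw [hSTT, actT_TT, single_vecMul_tv]
      rw [mm_Pj, h8, s4, map_smul] at h7
      have h9 : (ψ (t * (2 * c)) - 1) • Pj ρ ψ S.1 u = 0 := by
        rw [sub_smul, one_smul, h7, sub_self]
      exact sub_eq_zero.mp ((smul_eq_zero.mp h9).resolve_right h0)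
  have s6 : ∀ s : F, ρ (uu (sD i s)) u = u := by
    intro s
    conv_lhs => rw [← sum_Pj (ρ := ρ) hψ h2 u, map_sum]
    conv_rhs => rw [← sum_Pj (ρ := ρ) hψ h2 u]
    exact Finset.sum_congr rfl fun S _ => s5 S s
  -- the transvection fixes σs
  have s7 : ρ (Tv 1 (Sum.elim 0 (Pi.single i 1))) σs = σs := by
    apply rho_inj (ρ := ρ) (ww i)
    rw [← rho_mul, ww_mul_Tv, rho_mul, ← hu, s6]
  -- projections
  have s8 : Pj ρ ψ (sE i k c).1 σs = v := by
    rw [hσ, map_sum, Finset.sum_eq_single 0]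
    · have e : N 0 = v := by
        show ρ (mm (tv k i hki (-0))) v = v
        have e1 : tv k i hki (-0 : F) = 1 := by
          apply Units.ext
          rw [tv_coe]; simp
        rw [e1, map_one, map_one, Module.End.one_apply]
      rw [e, Pj_of_mem hv]
    · intro w _ hw
      apply Pj_of_mem_ne hψ h2 (sE i k c).2 (add_mem (sE i k c).2 (sD i (2 * c * w)).2) _ (hN w)
      intro h
      have := congrFun (congrFun h i) i
      rw [Matrix.add_apply, hDii] at this
      have h3 : 2 * c * w = 0 := by linear_combination -this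
      exact mul_ne_zero (mul_ne_zero h2 hc) hw h3
    · simp
  have s9 : ∀ w : F, Pj ρ ψ (sE i k c).1 (ρ (Tv 1 (Sum.elim 0 (Pi.single i 1))) (N w)) =
      Pj ρ ψ (sE i k c).1 (ρ (ww i) v) := by
    intro w
    have h := ww_mul_mm k i hki (-w)
    rw [neg_neg] at h
    rw [Tv_right, rho_mul, rho_mul, hN w, pr_sD, Matrix.add_apply, hHii, hDii, zero_add,
      map_smul, map_smul, map_smul, ← rho_uu_Pj, Pj_mem, pr_sD, hHii, mul_zero,
      AddChar.map_zero_eq_one, one_smul]
    show _ • Pj ρ ψ (sE i k c).1 (ρ (ww i) (ρ (mm (tv k i hki (-w))) v)) = _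
    rw [← rho_mul, h, rho_mul, ← rho_uu_Pj, Pj_mem, pr_sE, hHki, hHik, smul_smul,
      ← AddChar.map_add_eq_mul]
    have e : -1 * (2 * c * w) + w * (c + c) = 0 := by ring
    rw [e, AddChar.map_zero_eq_one, one_smul]
  have s10 : Pj ρ ψ (sE i k c).1 (ρ (Tv 1 (Sum.elim 0 (Pi.single i 1))) v) =
      Pj ρ ψ (sE i k c).1 (ρ (ww i) v) := by
    have h := s9 0
    have e : N 0 = v := by
      show ρ (mm (tv k i hki (-0))) v = v
      have e1 : tv k i hki (-0 : F) = 1 := by
        apply Units.ext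
        rw [tv_coe]; simp
      rw [e1, map_one, map_one, Module.End.one_apply]
    rwa [e] at h
  have s11 : (3 : ℂ) • Pj ρ ψ (sE i k c).1 (ρ (ww i) v) = v := by
    have h : Pj ρ ψ (sE i k c).1 (ρ (Tv 1 (Sum.elim 0 (Pi.single i 1))) σs) = v := by
      rw [s7, s8]
    rw [hσ, map_sum, map_sum, Finset.sum_congr rfl fun w _ => s9 w, Finset.sum_const,
      Finset.card_univ, hF, ← Nat.cast_smul_eq_nsmul ℂ] at h
    exact_mod_cast h
  rw [s10]
  conv_rhs => rw [← s11]
  rw [smul_smul]
  norm_num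

end Cfsg.Agent.H66.TI
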