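import Cfsg.Agent.H66.TI.Base
import Cfsg.Agent.H66.TI.F3

/-!
# The coefficient of the Weyl element on a hyperbolic weight space (helper66)
-/

set_option autoImplicit false
open Matrix Module Representation

namespace Cfsg.Agent.H66.TI

open Cfsg.Agent.H162.Weil

variable {F : Type*} [Field F] {n : ℕ} [Fintype F] {V : Type*} [AddCommGroup V] [Module ℂ V]
  {ρ : Representation ℂ (Sp n F) V} {ψ : AddChar F ℂ}

theorem three_cases' (hF : Fintype.card F = 3) {a : F} (ha : a ≠ 0) (x : F) :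
    x = 0 ∨ x = a ∨ x = -a := by
  rcases three_cases hF (x * a⁻¹) with h | h | h
  · left
    rcases mul_eq_zero.mp h with h | h
    · exact h
    · exact absurd h (inv_ne_zero ha)
  · right; left; field_simp at h; exact h
  · right; right; field_simp at h; exact h

theorem TU_zero (b : F) (x y : Fin n → F) : TU 0 b x y = TT b y := by
  rw [TU, TT, zero_smul, zero_add]

theorem single_vecMul_tv {i k : Fin n} (hki : k ≠ i) (b : F) :
    (Pi.single i 1 : Fin n → F) ᵥ*
      (((tv k i hki b)⁻¹ : GL (Fin n) F) : Matrix (Fin n) (Fin n) F) = Pi.single i 1 := by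
  rw [tv_inv_coe, vecMul_add, vecMul_one, vecMul_sgl, Pi.single_eq_of_ne hki, zero_mul,
    Pi.single_zero, add_zero]

theorem Ny_mem_TU {a b : F} {i k : Fin n} (hki : k ≠ i) {y y' : F} {v : V}
    (hv : v ∈ Wt ρ ψ (TU a b (Pi.single i 1) (ev k i y'))) :
    Ny ρ k i hki y v ∈ Wt ρ ψ (TU a b (Pi.single i 1) (ev k i (y + y'))) := by
  have := mm_mem_TU (tv k i hki (-y)) hv
  rwa [ev_vecMul, single_vecMul_tv] at this

theorem Ny_Pj_TU {a b : F} {i k : Fin n} (hki : k ≠ i) (y y' : F) (v : V) :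
    Ny ρ k i hki y (Pj ρ ψ (TU a b (Pi.single i 1) (ev k i y')) v) =
      Pj ρ ψ (TU a b (Pi.single i 1) (ev k i (y + y'))) (Ny ρ k i hki y v) := by
  rw [Ny, mm_Pj, actT_TU, ev_vecMul, single_vecMul_tv]

theorem psi_pr_eq {i : Fin n} {a b : F} {k : Fin n} {v : V}
    (hv : v ∈ Wt ρ ψ (TU a b (Pi.single i 1) (Pi.single k 1))) {T : Sym n F}
    (h0 : Pj ρ ψ T.1 (ρ (ww i) v) ≠ 0) (S : Sym n F) (hS : ∀ l, S.1 i l = 0) :
    ψ (pr T.1 S.1) = ψ (b * S.1 k k) := by
  have hTm := Pj_mem (ρ := ρ) (ψ := ψ) T.1 (ρ (ww i) v)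
  have h3 := hTm S
  rw [rho_uu_Pj, ← rho_mul, ← ww_comm_uu i S hS, rho_mul, uu_TU_single hv, map_smul,
    map_smul, hS, mul_zero, zero_add] at h3
  have h4 : (ψ (b * S.1 k k) - ψ (pr T.1 S.1)) • Pj ρ ψ T.1 (ρ (ww i) v) = 0 := by
    rw [sub_smul, h3, sub_self]
  rcases smul_eq_zero.mp h4 with h5 | h5
  · exact (sub_eq_zero.mp h5).symm
  · exact absurd h5 h0

/-- the weights of `ww i v` -/
theorem supp (hF : Fintype.card F = 3) (hψ : ψ.IsPrimitive) (hR : RkTwo ρ ψ) {i k : Fin n}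
    (hki : k ≠ i) {a b : F} (ha : a ≠ 0) (hab : b = -a)
    (h11 : ∀ v ∈ Wt ρ ψ (TU b b (Pi.single i 1) (Pi.single k 1)), v = 0) {v : V}
    (hv : v ∈ Wt ρ ψ (TU a b (Pi.single i 1) (Pi.single k 1))) {T : Sym n F}
    (h0 : Pj ρ ψ T.1 (ρ (ww i) v) ≠ 0) :
    ∃ w, T.1 = TU a b (Pi.single i 1) (ev k i w) ∨ T.1 = TT b (ev k i w) := by
  have h2 := two_ne hF
  have hb : b ≠ 0 := by rw [hab]; exact neg_ne_zero.mpr ha
  have hTm := Pj_mem (ρ := ρ) (ψ := ψ) T.1 (ρ (ww i) v)
  have h1 := fun S hS => psi_pr_eq (ρ := ρ) (ψ := ψ) hv (T := T) h0 S hS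
  have hpsi : ∀ x y : F, ψ x = ψ y → ψ (x - y) = 1 := by
    intro x y h
    rw [sub_eq_add_neg, AddChar.map_add_eq_mul, h, ← AddChar.map_add_eq_mul, add_neg_cancel,
      AddChar.map_zero_eq_one]
  have hdd : ∀ l, l ≠ i → T.1 l l = b * (if l = k then 1 else 0) := by
    intro l hl
    by_contra hne
    obtain ⟨s, hs⟩ := exists_ne_one hψ (sub_ne_zero.mpr hne)
    apply hs
    have := hpsi _ _ (h1 (sD l s) (fun m => sD_zero_of_ne _ _ _ _ (fun h => hl h.1.symm)))
    rw [pr_sD] at this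
    rw [← this]
    congr 1
    have e : ∀ m : Fin n, (sD l s).1 m m = if l = m then s else 0 := by
      intro m
      simp only [sD, single_apply]
      by_cases h : l = m <;> simp [h]
    rw [e]
    split_ifs <;> ring
  have hod : ∀ l m, l ≠ m → l ≠ i → m ≠ i → T.1 l m = 0 := by
    intro l m hlm hl hm
    by_contra hne
    obtain ⟨s, hs⟩ := exists_ne_one hψ (mul_ne_zero h2 hne)
    apply hs
    have := h1 (sE l m s) (fun q => sE_zero_of_ne _ _ _ _ _ (fun h => hl h.1.symm)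
      (fun h => hm h.1.symm))
    have e : ∀ q : Fin n, (sE l m s).1 q q = 0 := by
      intro q
      apply sE_zero_of_ne
      · rintro ⟨rfl, h⟩; exact hlm h
      · rintro ⟨rfl, h⟩; exact hlm h.symm
    rw [pr_sE, Sym.apply T m l, ← two_mul, e, mul_zero,
      AddChar.map_zero_eq_one] at this
    exact this
  have hkk : T.1 k k = b := by rw [hdd k hki]; simp
  have hil : ∀ l, l ≠ i → l ≠ k → T.1 i l = 0 := by
    intro l hli hlk
    have h := hR T.1 T.2 _ hTm h0 ![i, k, l] ![i, k, l]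
    rw [Matrix.det_fin_three] at h
    simp only [submatrix_apply, Matrix.cons_val_zero, Matrix.cons_val_one, Matrix.cons_val_two,
      Matrix.head_cons, Matrix.tail_cons, Matrix.cons_val] at h
    have hll : T.1 l l = 0 := by rw [hdd l hli, if_neg hlk, mul_zero]
    rw [hkk, hll, hod k l (Ne.symm hlk) hki hli, Sym.apply T l k, hod k l (Ne.symm hlk) hki hli,
      Sym.apply T l i] at h
    have h5 : b * T.1 i l ^ 2 = 0 := by linear_combination -h
    rcases mul_eq_zero.mp h5 with h6 | h6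
    · exact absurd h6 hb
    · exact pow_eq_zero_iff (two_ne_zero) |>.mp h6
  set w : F := b⁻¹ * T.1 i k with hw
  have hbw : b * w = T.1 i k := by rw [hw, mul_inv_cancel_left₀ hb]
  set s : F := T.1 i i - b * w ^ 2 with hs
  have hT : T.1 = TU s b (Pi.single i 1) (ev k i w) := by
    ext p q
    rw [TU_apply]
    have hevk : ev k i w k = 1 := ev_self hki w
    have hevi : ev k i w i = w := ev_snd hki w
    by_cases hp : p = i
    · by_cases hq : q = i
      · rw [hp, hq, hevi, hs]; simp; ring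
      · by_cases hqk : q = k
        · rw [hp, hqk, hevi, hevk, Pi.single_eq_of_ne hki, ← hbw]; ring
        · rw [hp, hevi, ev_ne hqk hq, Pi.single_eq_of_ne hq, hil q hq hqk]; ring
    · by_cases hpk : p = k
      · by_cases hq : q = i
        · rw [hpk, hq, hevi, hevk, Pi.single_eq_of_ne hki, Sym.apply T k i, ← hbw]; ring
        · by_cases hqk : q = k
          · rw [hpk, hqk, hevk, hkk, Pi.single_eq_of_ne hki]; ring
          · rw [hpk, hevk, ev_ne hqk hq, Pi.single_eq_of_ne hq, hod k q (Ne.symm hqk) hki hq]; ring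
      · rw [ev_ne hpk hp, Pi.single_eq_of_ne hp]
        by_cases hq : q = i
        · rw [hq, Sym.apply T p i, hil p hp hpk]; ring
        · by_cases hpq : p = q
          · rw [← hpq, hdd p hp, if_neg hpk]; ring
          · rw [hod p q hpq hp hq]; ring
  refine ⟨w, ?_⟩
  rcases three_cases' hF ha s with h | h | h
  · right; rw [hT, h, TU_zero]
  · left; rw [hT, h]
  · exfalso
    rw [hT, h, ← hab] at hTm
    have h3 := Ny_mem_TU hki (y := -w) hTm
    rw [neg_add_cancel, ev_zero] at h3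
    have h4 := h11 _ h3
    apply h0
    rw [hT, h, ← hab]
    apply rho_inj (ρ := ρ) (mm (tv k i hki (- -w)))
    rw [map_zero]
    exact h4

/-- the decomposition of `ww i v` -/
theorem ww_decomp (hF : Fintype.card F = 3) (hψ : ψ.IsPrimitive) (hR : RkTwo ρ ψ) {i k : Fin n}
    (hki : k ≠ i) {a b : F} (ha : a ≠ 0) (hab : b = -a)
    (h11 : ∀ v ∈ Wt ρ ψ (TU b b (Pi.single i 1) (Pi.single k 1)), v = 0) {v : V}
    (hv : v ∈ Wt ρ ψ (TU a b (Pi.single i 1) (Pi.single k 1))) :
    ρ (ww i) v = ∑ w : F, Ny ρ k i hki w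
      (Pj ρ ψ (TU a b (Pi.single i 1) (Pi.single k 1)) (ρ (ww i) v) +
        Pj ρ ψ (TT b (Pi.single k 1)) (ρ (ww i) v)) := by
  classical
  have h2 := two_ne hF
  have hb : b ≠ 0 := by rw [hab]; exact neg_ne_zero.mpr ha
  have hN : ∀ w : F, Ny ρ k i hki w (ρ (ww i) v) = ρ (ww i) v := by
    intro w
    have e : ∀ q : Fin n, (sE k i (-w)).1 q q = 0 := by
      intro q
      apply sE_zero_of_ne
      · rintro ⟨rfl, h⟩; exact hki h
      · rintro ⟨rfl, h⟩; exact hki h.symm
    rw [Ny, ← rho_mul, ← ww_mul_uu k i hki, rho_mul, uu_TU_single hv, e, e, mul_zero, mul_zero,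
      add_zero, AddChar.map_zero_eq_one, one_smul]
  have h1 : ∑ x : F ⊕ F, Sum.elim
      (fun w => Pj ρ ψ (TU a b (Pi.single i 1) (ev k i w)) (ρ (ww i) v))
      (fun w => Pj ρ ψ (TT b (ev k i w)) (ρ (ww i) v)) x = ρ (ww i) v := by
    conv_rhs => rw [← sum_Pj (ρ := ρ) hψ h2 (ρ (ww i) v)]
    refine Fintype.sum_of_injective (fun x => Sum.elim
      (fun w => (⟨TU a b (Pi.single i 1) (ev k i w), TU_mem _ _ _ _⟩ : Sym n F))
      (fun w => (⟨TT b (ev k i w), TT_mem _ _⟩ : Sym n F)) x) ?_ _ _ ?_ ?_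
    · have key : ∀ s s' w w' : F, TU s b (Pi.single i 1) (ev k i w) =
          TU s' b (Pi.single i 1) (ev k i w') → s = s' ∧ w = w' := by
        intro s s' w w' h
        have h3 := congrFun (congrFun h i) k
        rw [TU_apply, TU_apply, ev_snd hki, ev_snd hki, ev_self hki, ev_self hki,
          Pi.single_eq_of_ne hki] at h3
        have hw : w = w' := by
          apply mul_left_cancel₀ hb
          linear_combination h3
        have h4 := congrFun (congrFun h i) i
        rw [TU_apply, TU_apply, ev_snd hki, ev_snd hki, Pi.single_eq_same, hw] at h4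
        exact ⟨by linear_combination h4, hw⟩
      rintro (w | w) (w' | w') h
      · have := congrArg Subtype.val h
        simp only [Sum.elim_inl] at this
        rw [(key _ _ _ _ this).2]
      · exfalso
        have := congrArg Subtype.val h
        simp only [Sum.elim_inl, Sum.elim_inr] at this
        rw [← TU_zero b (Pi.single i 1)] at this
        exact ha (key _ _ _ _ this).1
      · exfalso
        have := congrArg Subtype.val h
        simp only [Sum.elim_inl, Sum.elim_inr] at this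
        rw [← TU_zero b (Pi.single i 1)] at this
        exact ha (key _ _ _ _ this).1.symm
      · have := congrArg Subtype.val h
        simp only [Sum.elim_inr] at this
        rw [← TU_zero b (Pi.single i 1), ← TU_zero b (Pi.single i 1)] at this
        rw [(key _ _ _ _ this).2]
    · intro T hT
      by_contra h0
      apply hT
      obtain ⟨w, hw | hw⟩ := supp hF hψ hR hki ha hab h11 hv h0
      · exact ⟨Sum.inl w, Subtype.ext hw.symm⟩
      · exact ⟨Sum.inr w, Subtype.ext hw.symm⟩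
    · rintro (w | w) <;> rfl
  rw [Fintype.sum_sum_type] at h1
  simp only [Sum.elim_inl, Sum.elim_inr] at h1
  rw [← Finset.sum_add_distrib] at h1
  conv_lhs => rw [← h1]
  refine Finset.sum_congr rfl fun w _ => ?_
  rw [map_add, ← ev_zero k i, Ny_Pj_TU, Ny_Pj, hN, add_zero]

theorem Pj_ww_Ny {i k : Fin n} (hki : k ≠ i) {a b : F} (w : F) (u : V) :
    Pj ρ ψ (TU a b (Pi.single i 1) (Pi.single k 1)) (ρ (ww i) (Ny ρ k i hki w u)) =
      Pj ρ ψ (TU a b (Pi.single i 1) (Pi.single k 1)) (ρ (ww i) u) := by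
  rw [Ny, ← rho_mul, ww_mul_mm, rho_mul, ← rho_uu_Pj, uu_TU_single (Pj_mem _ _)]
  have e : ∀ q : Fin n, (sE k i (- -w)).1 q q = 0 := by
    intro q
    apply sE_zero_of_ne
    · rintro ⟨rfl, h⟩; exact hki h
    · rintro ⟨rfl, h⟩; exact hki h.symm
  rw [e, e, mul_zero, mul_zero, add_zero, AddChar.map_zero_eq_one, one_smul]

/-- the basic relation -/
theorem rel (hF : Fintype.card F = 3) (hψ : ψ.IsPrimitive) (hR : RkTwo ρ ψ) {i k : Fin n}
    (hki : k ≠ i) {a b : F} (ha : a ≠ 0) (hab : b = -a)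
    (h11 : ∀ v ∈ Wt ρ ψ (TU b b (Pi.single i 1) (Pi.single k 1)), v = 0) {v : V}
    (hv : v ∈ Wt ρ ψ (TU a b (Pi.single i 1) (Pi.single k 1))) {κ η : ℂ}
    (hκ : Pj ρ ψ (TU a b (Pi.single i 1) (Pi.single k 1)) (ρ (ww i) v) = κ • v)
    (hη : Pj ρ ψ (TU a b (Pi.single i 1) (Pi.single k 1))
      (ρ (ww i) (Pj ρ ψ (TT b (Pi.single k 1)) (ρ (ww i) v))) = η • v) (s : F) :
    Pj ρ ψ (TU a b (Pi.single i 1) (Pi.single k 1))
      (ρ (ww i) (ρ (uu (sD i s)) (ρ (ww i) v))) =
      (gs ψ (s * b) * (ψ (s * a) * κ ^ 2 + η)) • v := by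
  set y := Pj ρ ψ (TT b (Pi.single k 1)) (ρ (ww i) v) with hy
  have hym : y ∈ Wt ρ ψ (TT b (Pi.single k 1)) := Pj_mem _ _
  rw [ww_decomp hF hψ hR hki ha hab h11 hv, hκ, ← hy, map_sum, map_sum, map_sum, gs,
    Finset.sum_mul, Finset.sum_smul]
  refine Finset.sum_congr rfl fun w _ => ?_
  have h1 : Ny ρ k i hki w (κ • v) ∈ Wt ρ ψ (TU a b (Pi.single i 1) (ev k i w)) := by
    have := Ny_mem_TU hki (y := w) (y' := 0) (v := κ • v) (ρ := ρ) (ψ := ψ) (a := a) (b := b)
      (by rw [ev_zero]; exact Submodule.smul_mem _ _ hv)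
    rwa [add_zero] at this
  have h3 : Ny ρ k i hki w y ∈ Wt ρ ψ (TT b (ev k i w)) := by
    have := Ny_mem hki (y := w) (y' := 0) (v := y) (ρ := ρ) (ψ := ψ) (lam := b)
      (by rw [ev_zero]; exact hym)
    rwa [add_zero] at this
  rw [map_add, map_add, h1, h3]
  simp only [map_add, map_smul, Pj_ww_Ny]
  rw [hκ, hη, smul_smul, smul_smul, smul_smul, ← add_smul]
  congr 1
  rw [pr_sD, pr_sD, TU_apply, TT_apply, ev_snd hki, Pi.single_eq_same]
  have e1 : s * (a * (1 * 1) + b * (w * w)) = s * b * w ^ 2 + s * a := by ring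
  have e3 : s * (b * (w * w)) = s * b * w ^ 2 := by ring
  rw [e1, e3, AddChar.map_add_eq_mul]
  ring

theorem actT_ht (i k : Fin n) (hki : k ≠ i) (a b : F) (t : Fˣ) (ht2 : (t : F) * t = 1) :
    actT (ht i t) (TU a b (Pi.single i 1) (Pi.single k 1)) =
      TU a b (Pi.single i 1) (Pi.single k 1) := by
  have hinv : ((t⁻¹ : Fˣ) : F) = t := by
    rw [Units.val_inv_eq_inv_val]
    exact inv_eq_of_mul_eq_one_right ht2
  rw [actT_TU, ht_inv, ht_coe, vecMul_add, vecMul_one, vecMul_sgl, vecMul_add, vecMul_one,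
    vecMul_sgl, Pi.single_eq_of_ne hki.symm, zero_mul, Pi.single_zero, add_zero,
    Pi.single_eq_same, one_mul, hinv, ← Pi.single_add]
  have : (1 : F) + ((t : F) - 1) = t := by ring
  rw [this]
  ext p q
  rw [TU_apply, TU_apply]
  congr 1
  by_cases hp : p = i
  · subst hp
    by_cases hq : q = p
    · subst hq; simp only [Pi.single_eq_same]; rw [ht2]; ring
    · simp [Pi.single_eq_of_ne hq]
  · simp [Pi.single_eq_of_ne hp]

theorem ww_mul_Tv (i : Fin n) : ww i * Tv (1 : F) (Sum.elim (0 : Fin n → F) (Pi.single i (1 : F))) =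
    uu (sD i (1 : F)) * ww i := by
  rw [mul_Tv, ww_mulVec]
  congr 1
  have : (Sum.elim (Function.update (0 : Fin n → F) i ((Pi.single i (1 : F) : Fin n → F) i))
      (Function.update (Pi.single i (1 : F) : Fin n → F) i (-(0 : Fin n → F) i))) =
      Sum.elim (Pi.single i (1 : F)) (0 : Fin n → F) := by
    congr 1
    · simp [Pi.single]
    · ext q
      by_cases hq : q = i
      · subst hq; simp
      · simp [hq]
  rw [this, Tv_left, sV_single]

/-- the opposite transvection -/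
theorem Tv_right (i : Fin n) : (Tv (1 : F) (Sum.elim (0 : Fin n → F) (Pi.single i (1 : F))) : Sp n F) =
    uu (sD i (-1 : F)) * ww i * uu (sD i (-1 : F)) := by
  have h3 := ww_uu_ww (n := n) (F := F) i (-1)
  have e5 : -(((-1 : Fˣ)⁻¹ : Fˣ) : F) = 1 := by simp
  rw [e5, Units.val_neg, Units.val_one] at h3
  have h4 := ww_mul_Tv (F := F) (n := n) i
  have h5 : mm (ht i (-1 : Fˣ)) * uu (sD i (-1 : F)) =
      uu (sD i (-1 : F)) * mm (ht i (-1 : Fˣ)) := by
    rw [mm_mul_uu]
    congr 2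
    apply Subtype.ext
    show ((ht i (-1) : GL (Fin n) F) : Matrix (Fin n) (Fin n) F) * single i i (-1 : F) *
      ((ht i (-1) : GL (Fin n) F) : Matrix (Fin n) (Fin n) F)ᵀ = single i i (-1 : F)
    rw [ht_coe]
    simp only [transpose_add, transpose_one, transpose_single, Matrix.mul_add, Matrix.add_mul,
      Matrix.one_mul, Matrix.mul_one, single_mul_single_same]
    rw [← single_add, ← single_add, ← single_add]
    congr 1
    rw [Units.val_neg, Units.val_one]
    ring
  have h6 : mm (ht i (-1 : Fˣ)) * Tv (1 : F) (Sum.elim (0 : Fin n → F) (Pi.single i (1 : F))) =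
      mm (ht i (-1 : Fˣ)) * (uu (sD i (-1 : F)) * ww i * uu (sD i (-1 : F))) := by
    conv_lhs => rw [← ww_sq, mul_assoc, h4, ← mul_assoc, h3, ← h5]
    simp only [mul_assoc]
  exact mul_left_cancel h6

/-- The coefficient of the opposite transvection. -/
theorem coef_ei (hF : Fintype.card F = 3) (hψ : ψ.IsPrimitive) (hR : RkTwo ρ ψ) {i k : Fin n}
    (hki : k ≠ i) {a b : F} (ha : a ≠ 0) (hab : b = -a)
    (h11 : ∀ v ∈ Wt ρ ψ (TU b b (Pi.single i 1) (Pi.single k 1)), v = 0) {v : V}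
    (hv : v ∈ Wt ρ ψ (TU a b (Pi.single i 1) (Pi.single k 1))) (hne : v ≠ 0)
    (h1d : ∀ u ∈ Wt ρ ψ (TU a b (Pi.single i 1) (Pi.single k 1)), ∃ c : ℂ, u = c • v)
    {ε : ℂ} (hε2 : ε * ε = 1) (hε : ρ (mm (ht i (-1))) v = ε • v) :
    Pj ρ ψ (TU a b (Pi.single i 1) (Pi.single k 1))
      (ρ (Tv 1 (Sum.elim 0 (Pi.single i 1))) v) = (ψ a * ((ψ (-a) + ε * ψ a) / 3)) • v := by
  obtain ⟨κ, hκ⟩ := h1d _ (Pj_mem _ (ρ (ww i) v))
  obtain ⟨η, hη⟩ := h1d _ (Pj_mem _ (ρ (ww i) (Pj ρ ψ (TT b (Pi.single k 1)) (ρ (ww i) v))))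
  have hrel := rel hF hψ hR hki ha hab h11 hv hκ hη
  have hinj : ∀ c d : ℂ, c • v = d • v → c = d := fun c d h => smul_left_injective ℂ hne h
  have hht1 : (ht i (1 : Fˣ) : GL (Fin n) F) = 1 := by
    apply Units.ext
    rw [ht_coe]; simp
  have huv : ∀ s : F, ρ (uu (sD i s)) v = ψ (s * a) • v := by
    intro s
    rw [hv, pr_sD, TU_apply, Pi.single_eq_same, Pi.single_eq_of_ne hki.symm]
    congr 2; ring
  have hup : ∀ (s : F) (z : V), Pj ρ ψ (TU a b (Pi.single i 1) (Pi.single k 1))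
      (ρ (uu (sD i s)) z) = ψ (s * a) • Pj ρ ψ (TU a b (Pi.single i 1) (Pi.single k 1)) z := by
    intro s z
    rw [← rho_uu_Pj, Pj_mem, pr_sD, TU_apply, Pi.single_eq_same, Pi.single_eq_of_ne hki.symm]
    congr 2; ring
  have hmm : ∀ z : V, Pj ρ ψ (TU a b (Pi.single i 1) (Pi.single k 1))
      (ρ (mm (ht i (-1))) z) =
      ρ (mm (ht i (-1))) (Pj ρ ψ (TU a b (Pi.single i 1) (Pi.single k 1)) z) := by
    intro z
    rw [mm_Pj, actT_ht i k hki a b (-1) (by simp)]
  -- s = 0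
  have e0 : 3 * (κ ^ 2 + η) = ε := by
    have h := hrel 0
    have h0 : (sD i (0 : F) : Sym n F) = 0 := by
      apply Subtype.ext
      simp [sD]
    rw [h0, uu_zero, map_one, Module.End.one_apply, ← rho_mul, ww_sq, hmm, Pj_of_mem hv, hε,
      zero_mul, zero_mul, AddChar.map_zero_eq_one, gs_eq hF, AddChar.map_zero_eq_one] at h
    have h3 := hinj _ _ h
    linear_combination -h3
  have e1 : (1 + 2 * ψ a) * (ψ (-a) * κ ^ 2 + η) = ψ (-a) * κ := by
    have h := hrel (-1)
    have h3 := ww_uu_ww (n := n) (F := F) i 1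
    rw [inv_one, Units.val_one, hht1, map_one, mul_one] at h3
    rw [← rho_mul, ← rho_mul, h3, rho_mul, rho_mul, huv, hup, map_smul, map_smul,
      hκ, smul_smul, smul_smul] at h
    have h4 := hinj _ _ h
    rw [one_mul] at h4
    have e : (-1 : F) * b = a := by rw [hab]; ring
    rw [e, gs_eq hF, neg_one_mul] at h4
    rw [← h4]
    linear_combination κ * psi_sq (ψ := ψ) hF a
  have e2 : (1 + 2 * ψ (-a)) * (ψ a * κ ^ 2 + η) = ψ a * κ * ε := by
    have h := hrel 1
    have h3 := ww_uu_ww (n := n) (F := F) i (-1)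
    have e5 : -(((-1 : Fˣ)⁻¹ : Fˣ) : F) = 1 := by simp
    rw [e5] at h3
    rw [← rho_mul, ← rho_mul, h3, rho_mul, rho_mul, rho_mul, huv, hup, map_smul,
      map_smul, map_smul, hmm, hκ, map_smul, hε, smul_smul, smul_smul, smul_smul] at h
    have h4 := hinj _ _ h
    have e : (1 : F) * b = -a := by rw [hab]; ring
    rw [e, gs_eq hF, one_mul, Units.val_neg, Units.val_one, neg_one_mul] at h4
    rw [← h4]
    have h6 := psi_sq (ψ := ψ) hF (-a)
    rw [neg_neg] at h6
    linear_combination κ * ε * h6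
  have hp := sum_psi hF hψ ha
  have hpp := psi_mul_neg (ψ := ψ) a
  -- the quadratic equation
  have e3 : 3 * κ ^ 2 = (ψ (-a) + ε * ψ a) * κ := by
    have hq : ψ a * ψ a = -1 - ψ a := by rw [psi_sq hF, hp]
    have h5 : (1 + 2 * ψ a) * (ψ (-a) * κ ^ 2 + η) + (1 + 2 * ψ (-a)) * (ψ a * κ ^ 2 + η) =
      ψ (-a) * κ + ψ a * κ * ε := by rw [e1, e2]
    rw [hp] at h5 ⊢
    linear_combination h5 + 4 * κ ^ 2 * hq
  have hκ0 : κ ≠ 0 := by
    intro h0
    rw [h0] at e0 e1
    have hg : (1 + 2 * ψ a) ≠ 0 := by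
      intro h
      have hq : ψ a * ψ a = -1 - ψ a := by rw [psi_sq hF, hp]
      have : (1 + 2 * ψ a) * (1 + 2 * ψ a) = -3 := by linear_combination 4 * hq
      rw [h] at this
      norm_num at this
    have hη0 : η = 0 := by
      have : (1 + 2 * ψ a) * η = 0 := by linear_combination e1
      exact (mul_eq_zero.mp this).resolve_left hg
    rw [hη0] at e0
    have : ε = 0 := by rw [← e0]; ring
    rw [this] at hε2
    norm_num at hε2
  have hκv : κ = (ψ (-a) + ε * ψ a) / 3 := by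
    have : κ * (3 * κ - (ψ (-a) + ε * ψ a)) = 0 := by linear_combination e3
    have := (mul_eq_zero.mp this).resolve_left hκ0
    linear_combination this / 3
  have hL := Tv_right (F := F) (n := n) i
  rw [hL, rho_mul, rho_mul, huv, map_smul, map_smul, map_smul, hup, hκ, smul_smul, smul_smul,
    hκv]
  congr 1
  have h6 := psi_sq (ψ := ψ) hF (-a)
  rw [neg_neg] at h6
  rw [neg_one_mul]
  linear_combination ((ψ (-a) + ε * ψ a) / 3) * h6

end Cfsg.Agent.H66.TI
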