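import Cfsg.Agent.H66.TI.Kap
import Cfsg.Agent.H162.WeilIrr
import Cfsg.Agent.H162.WeilOrb

/-!
# Coefficients of the opposite transvections outside the support (helper66)
-/

set_option autoImplicit false
open Matrix Module Representation

namespace Cfsg.Agent.H66.TI

open Cfsg.Agent.H162.Weil

variable {F : Type*} [Field F] {n : ℕ} [Fintype F] {V : Type*} [AddCommGroup V] [Module ℂ V]
  {ρ : Representation ℂ (Sp n F) V} {ψ : AddChar F ℂ}

theorem g2_three (hF : Fintype.card F = 3) (hψ : ψ.IsPrimitive) {a : F} (ha : a ≠ 0) :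
    g2 ψ (-a) a = 3 ∧ g2 ψ a (-a) = 3 := by
  have hp := sum_psi hF hψ ha
  have hpp := psi_mul_neg (ψ := ψ) a
  constructor
  · rw [g2, gs_eq hF, gs_eq hF]
    linear_combination 4 * hpp + 2 * hp
  · rw [g2, gs_eq hF, gs_eq hF]
    linear_combination 4 * hpp + 2 * hp

/-- transport of coefficients -/
theorem transport (h : GL (Fin n) F) {T : Matrix (Fin n) (Fin n) F} {c : ℂ} {b : Fin n → F}
    (H : ∀ v ∈ Wt ρ ψ T, Pj ρ ψ T (ρ (Tv 1 (Sum.elim 0 b)) v) = c • v) :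
    ∀ v ∈ Wt ρ ψ (actT h T), Pj ρ ψ (actT h T) (ρ (Tv 1 (Sum.elim 0
      (b ᵥ* ((h⁻¹ : GL (Fin n) F) : Matrix (Fin n) (Fin n) F)))) v) = c • v := by
  intro v hv
  have h1 := mm_mem_Wt h⁻¹ hv
  rw [← actT_mul, inv_mul_cancel, actT_one] at h1
  have h3 : v = ρ (mm h) (ρ (mm h⁻¹) v) := by
    rw [← rho_mul, ← map_mul, mul_inv_cancel, map_one, map_one, Module.End.one_apply]
  have h4 : mm h * Tv 1 (Sum.elim 0 b) = Tv 1 (Sum.elim 0
      (b ᵥ* ((h⁻¹ : GL (Fin n) F) : Matrix (Fin n) (Fin n) F))) * mm h := by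
    rw [mul_Tv, mm_mulVec, mulVec_zero]
  conv_lhs => rw [h3]
  rw [← rho_mul, ← h4, rho_mul, ← mm_Pj, H _ h1, map_smul, ← h3]

/-- the coefficient for `e_j`, `j` outside the support -/
theorem coef_ej (hF : Fintype.card F = 3) (hψ : ψ.IsPrimitive) (hR : RkTwo ρ ψ) {i k j : Fin n}
    (hik : i ≠ k) (hij : i ≠ j) (hkj : k ≠ j) {a b : F} (ha : a ≠ 0) (hab : b = -a) {v : V}
    (hv : v ∈ Wt ρ ψ (TU a b (Pi.single i 1) (Pi.single k 1))) :
    Pj ρ ψ (TU a b (Pi.single i 1) (Pi.single k 1))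
      (ρ (Tv 1 (Sum.elim 0 (Pi.single j 1))) v) = (1 / 3 : ℂ) • v := by
  have hb : b ≠ 0 := by rw [hab]; exact neg_ne_zero.mpr ha
  have h0 : TU a b (Pi.single i 1) (Pi.single k 1) j j = 0 := by
    rw [TU_apply, Pi.single_eq_of_ne hij.symm, Pi.single_eq_of_ne hkj.symm]; ring
  have h1 := g2_Lop hψ (two_ne hF) hR hik hij hkj ha hb hv
  have hup : ∀ (s : F) (z : V), Pj ρ ψ (TU a b (Pi.single i 1) (Pi.single k 1))
      (ρ (uu (sD j s)) z) = Pj ρ ψ (TU a b (Pi.single i 1) (Pi.single k 1)) z := by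
    intro s z
    rw [← rho_uu_Pj, Pj_mem, pr_sD, h0, mul_zero, AddChar.map_zero_eq_one, one_smul]
  rw [Tv_right, rho_mul, rho_mul, hup, hv, pr_sD, h0, mul_zero, AddChar.map_zero_eq_one, one_smul]
  rw [Lop, TV_zero, hab, neg_neg, (g2_three hF hψ ha).1, ← hab] at h1
  conv_rhs => rw [← h1]
  rw [smul_smul]
  norm_num

/-- the coefficient for `b` outside the support -/
theorem coef_out (hF : Fintype.card F = 3) (hψ : ψ.IsPrimitive) (hR : RkTwo ρ ψ) {i k j : Fin n}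
    (hik : i ≠ k) (hij : i ≠ j) (hkj : k ≠ j) {a b : F} (ha : a ≠ 0) (hab : b = -a) {v : V}
    (hv : v ∈ Wt ρ ψ (TU a b (Pi.single i 1) (Pi.single k 1))) {x : Fin n → F} (hx : x j ≠ 0) :
    Pj ρ ψ (TU a b (Pi.single i 1) (Pi.single k 1))
      (ρ (Tv 1 (Sum.elim 0 x)) v) = (1 / 3 : ℂ) • v := by
  let r : GL (Fin n) F := Cfsg.Agent.H162.Weil.rk (Pi.single j 1) (x - Pi.single j 1)
    (by simpa using hx)
  have hr : ∀ m, m ≠ j → (Pi.single m 1 : Fin n → F) ᵥ* (r : Matrix (Fin n) (Fin n) F) =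
      Pi.single m 1 := by
    intro m hm
    rw [rk_coe, vecMul_add, vecMul_one, vecMul_vecMulVec]
    simp [hm]
  have hrj : (Pi.single j 1 : Fin n → F) ᵥ* (r : Matrix (Fin n) (Fin n) F) = x := by
    rw [rk_coe, vecMul_add, vecMul_one, vecMul_vecMulVec]
    simp
  have h1 := transport (ρ := ρ) (ψ := ψ) r⁻¹
    (T := TU a b (Pi.single i 1) (Pi.single k 1)) (c := 1 / 3) (b := Pi.single j 1)
    (fun v hv => coef_ej hF hψ hR hik hij hkj ha hab hv)
  rw [inv_inv, hrj, actT_TU, inv_inv, hr i hij, hr k hkj] at h1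
  exact h1 v hv

/-- signs outside the support act trivially -/
theorem ht_out (hF : Fintype.card F = 3) (hψ : ψ.IsPrimitive) (hR : RkTwo ρ ψ) {i k j : Fin n}
    (hik : i ≠ k) (hij : i ≠ j) (hkj : k ≠ j) {a b : F} (ha : a ≠ 0) (hab : b = -a) {v : V}
    (hv : v ∈ Wt ρ ψ (TU a b (Pi.single i 1) (Pi.single k 1))) :
    ρ (mm (ht j (-1))) v = v := by
  have hb : b ≠ 0 := by rw [hab]; exact neg_ne_zero.mpr ha
  have h := g2_ht hψ (two_ne hF) hR hik hij hkj ha hb hv (-1)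
  have e5 : -(((-1 : Fˣ)⁻¹ : Fˣ) : F) = 1 := by simp
  rw [e5, one_mul, one_mul, hab, neg_neg, (g2_three hF hψ ha).1, (g2_three hF hψ ha).2] at h
  exact smul_right_injective V (by norm_num : (3 : ℂ) ≠ 0) h

theorem dg_out (hF : Fintype.card F = 3) (hψ : ψ.IsPrimitive) (hR : RkTwo ρ ψ) {i k : Fin n}
    (hik : i ≠ k) {a b : F} (ha : a ≠ 0) (hab : b = -a) {v : V}
    (hv : v ∈ Wt ρ ψ (TU a b (Pi.single i 1) (Pi.single k 1))) (s : Finset (Fin n))
    (hi : i ∉ s) (hk : k ∉ s) :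
    ρ (mm (dg (fun l => if l ∈ s then (-1 : Fˣ) else 1))) v = v := by
  classical
  induction s using Finset.induction_on with
  | empty =>
    have : (dg (fun l : Fin n => if l ∈ (∅ : Finset (Fin n)) then (-1 : Fˣ) else 1) :
        GL (Fin n) F) = 1 := by
      apply Units.ext
      rw [dg_coe]
      simp
    rw [this, map_one, map_one, Module.End.one_apply]
  | insert j s hj ih =>
    have h1 : (dg (fun l : Fin n => if l ∈ insert j s then (-1 : Fˣ) else 1) :
        GL (Fin n) F) = dg (fun l => if l ∈ s then (-1 : Fˣ) else 1) * ht j (-1) := by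
      rw [ht, ← dg_mul]
      congr 1
      ext l
      by_cases hl : l = j
      · subst hl
        simp [hj]
      · simp [hl]
    rw [Finset.mem_insert, not_or] at hi hk
    rw [h1, map_mul, rho_mul, ht_out hF hψ hR hik hi.1 hk.1 ha hab hv, ih hi.2 hk.2]

/-- the two signs agree -/
theorem sign_eq (hF : Fintype.card F = 3) (hψ : ψ.IsPrimitive) (hR : RkTwo ρ ψ)
    (hz : ρ (zz n F) = 1) {i k : Fin n}
    (hik : i ≠ k) {a b : F} (ha : a ≠ 0) (hab : b = -a) {v : V}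
    (hv : v ∈ Wt ρ ψ (TU a b (Pi.single i 1) (Pi.single k 1))) :
    ρ (mm (ht i (-1))) (ρ (mm (ht k (-1))) v) = v := by
  classical
  have h1 := dg_out hF hψ hR hik ha hab hv (Finset.univ \ {i, k}) (by simp) (by simp)
  have h3 : (-1 : GL (Fin n) F) = ht i (-1) * (ht k (-1) *
      dg (fun l => if l ∈ Finset.univ \ {i, k} then (-1 : Fˣ) else 1)) := by
    rw [ht, ht, ← dg_mul, ← dg_mul]
    apply Units.ext
    rw [dg_coe]
    ext p q
    by_cases hpq : p = q
    · subst hpq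
      by_cases hpi : p = i
      · subst hpi
        simp [hik]
      · by_cases hpk : p = k
        · subst hpk
          simp [hpi]
        · simp [hpi, hpk]
    · simp [hpq]
  have h4 : ρ (zz n F) v = v := by rw [hz]; rfl
  rw [zz, h3, map_mul, rho_mul, map_mul, rho_mul, h1] at h4
  exact h4

end Cfsg.Agent.H66.TI
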